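import Groth.Agent.Lib.LimTop.PC
import Mathlib.AlgebraicGeometry.ResidueField
import Mathlib.Algebra.Category.Ring.FilteredColimits

/-!
# Points of cofiltered limits of schemes with affine transition maps
-/

universe u

open CategoryTheory CategoryTheory.Limits AlgebraicGeometry TopologicalSpace Topology Opposite
open Groth.Agent.Lib.LimTop.PC

namespace Groth.Agent.Lib.LimTop.Points

variable {I : Type u} [SmallCategory I] [IsCofiltered I] {D : I ⥤ Scheme.{u}} {c : Cone D}

/-- Transition map between residue fields of a compatible family of points. -/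
noncomputable def residueMap {X Y : Scheme.{u}} (f : X ⟶ Y) {x : X} {y : Y} (h : f x = y) :
    Y.residueField y ⟶ X.residueField x :=
  (Y.residueFieldCongr h.symm).hom ≫ f.residueFieldMap x

lemma SpecMap_residueMap {X Y : Scheme.{u}} (f : X ⟶ Y) {x : X} {y : Y} (h : f x = y) :
    Spec.map (residueMap f h) ≫ Y.fromSpecResidueField y = X.fromSpecResidueField x ≫ f := by
  subst h
  simp [residueMap]

/-- The diagram of residue fields of a compatible family of points. -/
noncomputable def residueDiagram (x : ∀ i, D.obj i)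
    (hx : ∀ (i j : I) (f : i ⟶ j), D.map f (x i) = x j) : Iᵒᵖ ⥤ CommRingCat.{u} where
  obj i := (D.obj i.unop).residueField (x i.unop)
  map f := residueMap (D.map f.unop) (hx _ _ f.unop)
  map_id i := by
    refine Spec.map_injective ?_
    rw [← cancel_mono (Scheme.fromSpecResidueField _ _), SpecMap_residueMap]
    simp
  map_comp {i j k} f g := by
    refine Spec.map_injective ?_
    rw [← cancel_mono (Scheme.fromSpecResidueField _ _), Spec.map_comp, Category.assoc,
      SpecMap_residueMap, SpecMap_residueMap, ← Category.assoc, SpecMap_residueMap]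
    simp

/-- A compatible family of points comes from a point of the limit. -/
theorem exists_point (hc : IsLimit c) (x : ∀ i, D.obj i)
    (hx : ∀ (i j : I) (f : i ⟶ j), D.map f (x i) = x j) :
    ∃ s : c.pt, ∀ i, c.π.app i s = x i := by
  let F := residueDiagram x hx
  have hf : ∀ i, Nontrivial (F.obj i) := fun i =>
    inferInstanceAs (Nontrivial ((D.obj i.unop).residueField (x i.unop)))
  have : Nontrivial (colimit F : CommRingCat.{u}) :=
    CommRingCat.FilteredColimits.nontrivial (colimit.isColimit F)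
  let c' : Cone D :=
    { pt := Spec (colimit F)
      π :=
        { app := fun i => Spec.map (colimit.ι F (op i)) ≫ (D.obj i).fromSpecResidueField (x i)
          naturality := fun i j f => by
            have h : F.map f.op ≫ colimit.ι F (op i) = colimit.ι F (op j) := colimit.w F f.op
            change 𝟙 _ ≫ Spec.map (colimit.ι F (op j)) ≫ _ = (Spec.map (colimit.ι F (op i)) ≫ _) ≫ _
            rw [Category.id_comp, ← h, Spec.map_comp]
            exact (Category.assoc _ _ _).trans ((congrArg (Spec.map (colimit.ι F (op i)) ≫ ·)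
              (SpecMap_residueMap (D.map f) (hx i j f))).trans (Category.assoc _ _ _).symm) } }
  obtain ⟨p⟩ : Nonempty (Spec (colimit F)) := inferInstanceAs (Nonempty (PrimeSpectrum _))
  refine ⟨hc.lift c' p, fun i => ?_⟩
  rw [← Scheme.Hom.comp_apply, hc.fac]
  exact (Scheme.Hom.comp_apply ..).trans (Scheme.fromSpecResidueField_apply ..)

variable [∀ (i j : I) (f : i ⟶ j), IsAffineHom (D.map f)]

lemma exists_mem_affine (hc : IsLimit c) {i : I} {U : (D.obj i).Opens} (hU : IsAffineOpen U)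
    (Z : ∀ j, (j ⟶ i) → Set (D.obj j)) (hPC : ∀ j φ, IsPC (Z j φ))
    (hne : ∀ j φ, (Z j φ ∩ ⇑(D.map φ) ⁻¹' U).Nonempty)
    (hmap : ∀ (j k : I) (ψ : k ⟶ j) (φ : j ⟶ i),
      Set.MapsTo (D.map ψ) (Z k (ψ ≫ φ)) (Z j φ)) :
    ∃ s : c.pt, c.π.app i s ∈ U ∧ ∀ j φ, c.π.app j s ∈ Z j φ := by
  let G := opensDiagram D i U
  have haff : ∀ j, IsAffine (G.obj j) := fun j => hU.preimage (D.map j.hom)
  have hG : ∀ {j k : Over i} (f : j ⟶ k) (w : G.obj j),
      (D.map k.hom ⁻¹ᵁ U).ι (G.map f w) = D.map f.left ((D.map j.hom ⁻¹ᵁ U).ι w) := fun f w =>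
    congr($(Scheme.Hom.resLE_comp_ι _ _) w)
  let P (j : Over i) : Type u :=
    {w : WithConstructibleTopology (G.obj j) //
      (D.map j.hom ⁻¹ᵁ U).ι w.ofTopology ∈ Z j.left j.hom}
  let F : Over i ⥤ TopCat.{u} :=
    { obj := fun j => TopCat.of (P j)
      map := fun {j k} f => TopCat.ofHom
        ⟨fun w => (⟨WithTopology.toTopology _ (G.map f w.1.ofTopology), by
            have h := hmap k.left j.left f.left k.hom (x := (D.map j.hom ⁻¹ᵁ U).ι w.1.ofTopology)
              (by rw [Over.w]; exact w.2)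
            change (D.map k.hom ⁻¹ᵁ U).ι (G.map f w.1.ofTopology) ∈ Z k.left k.hom
            rw [hG]; exact h⟩ : P k),
        by
          refine Continuous.subtype_mk ?_ _
          exact Continuous.comp
            (g := fun v : WithConstructibleTopology (G.obj j) =>
              (WithTopology.toTopology (constructibleTopology (G.obj k)) (G.map f v.ofTopology)))
            (@Continuous.comp _ _ _ _ (constructibleTopology (G.obj k)) _ _ _
              (WithTopology.continuous_toTopology _)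
              (@Continuous.comp _ _ _ _ (constructibleTopology (G.obj j))
                (constructibleTopology (G.obj k)) _ _
                (continuous_cons_of_affine (G.map f)) (WithTopology.continuous_ofTopology _)))
            continuous_subtype_val⟩
      map_id := fun j => by
        refine TopCat.ext fun w => Subtype.ext ?_
        apply WithTopology.ofTopology_injective
        change G.map (𝟙 j) w.1.ofTopology = w.1.ofTopology
        rw [G.map_id]; rfl
      map_comp := fun f g => by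
        refine TopCat.ext fun w => Subtype.ext ?_
        apply WithTopology.ofTopology_injective
        change G.map (f ≫ g) w.1.ofTopology = G.map g (G.map f w.1.ofTopology)
        rw [G.map_comp]; rfl }
  have hN : ∀ j, Nonempty (F.obj j) := fun j => by
    obtain ⟨w, hwZ, hwU⟩ := hne j.left j.hom
    exact ⟨(⟨WithTopology.toTopology _ ⟨w, hwU⟩, hwZ⟩ : P j)⟩
  have hC : ∀ j, CompactSpace (F.obj j) := fun j => by
    have : IsAffine (D.map j.hom ⁻¹ᵁ U).toScheme := hU.preimage _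
    have : CompactSpace (P j) := isCompact_iff_compactSpace.mp
      (isClosed_cons_iff.mp (hPC j.left j.hom (D.map j.hom ⁻¹ᵁ U) (hU.preimage _))).isCompact
    exact this
  have hT : ∀ j, T2Space (F.obj j) := fun j => inferInstanceAs (T2Space (P j))
  obtain ⟨u⟩ := TopCat.nonempty_limitCone_of_compact_t2_cofiltered_system F
  let x : ∀ j : Over i, D.obj j.left := fun j => (D.map j.hom ⁻¹ᵁ U).ι (u.1 j).1.ofTopology
  obtain ⟨s, hs⟩ := exists_point (D := Over.forget i ⋙ D)
    ((Functor.Initial.isLimitWhiskerEquiv (Over.forget i) c).symm hc) x (fun j k f => by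
      have h := congrArg (fun w : P k => (D.map k.hom ⁻¹ᵁ U).ι w.1.ofTopology) (u.2 f)
      exact (hG f (u.1 j).1.ofTopology).symm.trans h)
  refine ⟨s, ?_, fun j φ => ?_⟩
  · have h1 : c.π.app i s = x (Over.mk (𝟙 i)) := hs (Over.mk (𝟙 i))
    have h2 : D.map (𝟙 i) (x (Over.mk (𝟙 i))) ∈ U := ((u.1 (Over.mk (𝟙 i))).1.ofTopology).2
    rw [h1]; simpa using h2
  have h1 : c.π.app j s = x (Over.mk φ) := hs (Over.mk φ)
  rw [h1]
  exact (u.1 (Over.mk φ)).2

lemma exists_mem (hc : IsLimit c) (i : I) [CompactSpace (D.obj i)]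
    (Z : ∀ j, (j ⟶ i) → Set (D.obj j)) (hPC : ∀ j φ, IsPC (Z j φ))
    (hne : ∀ j φ, (Z j φ).Nonempty)
    (hmap : ∀ (j k : I) (ψ : k ⟶ j) (φ : j ⟶ i),
      Set.MapsTo (D.map ψ) (Z k (ψ ≫ φ)) (Z j φ)) :
    ∃ s : c.pt, ∀ j φ, c.π.app j s ∈ Z j φ := by
  classical
  obtain ⟨t, ht⟩ := CompactSpace.elim_nhds_subcover
    (fun x : D.obj i => (((D.obj i).affineCover.f ((D.obj i).affineCover.idx x)).opensRange :
      Set (D.obj i)))
    (fun x => ((D.obj i).affineCover.f ((D.obj i).affineCover.idx x)).opensRange.2.mem_nhds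
      ((D.obj i).affineCover.covers x))
  let U : D.obj i → (D.obj i).Opens := fun x =>
    ((D.obj i).affineCover.f ((D.obj i).affineCover.idx x)).opensRange
  suffices ∃ x, ∀ j φ, (Z j φ ∩ ⇑(D.map φ) ⁻¹' (U x)).Nonempty by
    obtain ⟨x, hx⟩ := this
    obtain ⟨s, -, hs⟩ := exists_mem_affine hc (isAffineOpen_opensRange _) Z hPC hx hmap
    exact ⟨s, hs⟩
  by_contra! H
  choose j φ hjφ using H
  obtain ⟨m, hm⟩ := IsCofiltered.inf_objs_exists (t.image fun x => Over.mk (φ x))
  obtain ⟨w, hw⟩ := hne m.left m.hom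
  obtain ⟨x, hxt, hwx⟩ := Set.mem_iUnion₂.mp (ht.ge (Set.mem_univ (D.map m.hom w)))
  obtain ⟨f⟩ := hm (Finset.mem_image_of_mem _ hxt)
  have hfw : f.left ≫ φ x = m.hom := Over.w f
  refine Set.eq_empty_iff_forall_notMem.mp (hjφ x) (D.map f.left w) ⟨?_, ?_⟩
  · exact hmap (j x) m.left f.left (φ x) (by rw [hfw]; exact hw)
  · have h : D.map (φ x) (D.map f.left w) = D.map m.hom w := by
      rw [← hfw, D.map_comp]; rfl
    change D.map (φ x) (D.map f.left w) ∈ (U x : Set (D.obj i))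
    rw [h]; exact hwx

omit [IsCofiltered I] [∀ (i j : I) (f : i ⟶ j), IsAffineHom (D.map f)] in
lemma map_comp_apply {j k l : I} (ψ : j ⟶ k) (φ : k ⟶ l) (w : D.obj j) :
    D.map (ψ ≫ φ) w = D.map φ (D.map ψ w) := by
  rw [D.map_comp]; rfl

omit [IsCofiltered I] [∀ (i j : I) (f : i ⟶ j), IsAffineHom (D.map f)] in
lemma π_map_apply {j k : I} (φ : j ⟶ k) (s : c.pt) : D.map φ (c.π.app j s) = c.π.app k s := by
  rw [← c.w φ]; rfl

lemma exists_map_preimage_eq_empty (hc : IsLimit c) (i : I) [CompactSpace (D.obj i)]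
    {Z : Set (D.obj i)} (hZ : IsPC Z) (h : (⇑(c.π.app i) ⁻¹' Z : Set c.pt) = ∅) :
    ∃ (j : I) (φ : j ⟶ i), (⇑(D.map φ) ⁻¹' Z : Set (D.obj j)) = ∅ := by
  by_contra! H
  obtain ⟨s, hs⟩ := exists_mem hc i (fun j φ => ⇑(D.map φ) ⁻¹' Z) (fun j φ => hZ.preimage _)
    H (fun j k ψ φ w hw => by simpa [map_comp_apply] using hw)
  exact Set.eq_empty_iff_forall_notMem.mp h s (by simpa using hs i (𝟙 i))

lemma exists_map_preimage_subset (hc : IsLimit c) (i : I) [CompactSpace (D.obj i)]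
    {A B : Set (D.obj i)} (hA : IsPC A) (hB : IsPC Bᶜ)
    (h : (⇑(c.π.app i) ⁻¹' A : Set c.pt) ⊆ ⇑(c.π.app i) ⁻¹' B) :
    ∃ (j : I) (φ : j ⟶ i), (⇑(D.map φ) ⁻¹' A : Set (D.obj j)) ⊆ ⇑(D.map φ) ⁻¹' B := by
  obtain ⟨j, φ, e⟩ := exists_map_preimage_eq_empty hc i (hA.sdiff hB)
    (by rw [Set.preimage_sdiff]; exact Set.sdiff_eq_empty.mpr h)
  exact ⟨j, φ, Set.sdiff_eq_empty.mp (by rwa [← Set.preimage_sdiff])⟩

omit [IsCofiltered I] [∀ (i j : I) (f : i ⟶ j), IsAffineHom (D.map f)] in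
lemma preimage_comp_eq {j k l : I} (ψ : j ⟶ k) (φ : k ⟶ l) (A : Set (D.obj l)) :
    (⇑(D.map (ψ ≫ φ)) ⁻¹' A : Set (D.obj j)) = ⇑(D.map ψ) ⁻¹' (⇑(D.map φ) ⁻¹' A) := by
  rw [D.map_comp]; rfl

omit [IsCofiltered I] [∀ (i j : I) (f : i ⟶ j), IsAffineHom (D.map f)] in
lemma preimage_π_eq {j k : I} (φ : j ⟶ k) (A : Set (D.obj k)) :
    (⇑(c.π.app j) ⁻¹' (⇑(D.map φ) ⁻¹' A) : Set c.pt) = ⇑(c.π.app k) ⁻¹' A := by
  rw [← c.w φ]; rfl

lemma exists_map_preimage_eq (hc : IsLimit c) (i : I) [CompactSpace (D.obj i)]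
    {A B : Set (D.obj i)} (hA : IsPC A) (hA' : IsPC Aᶜ) (hB : IsPC B) (hB' : IsPC Bᶜ)
    (h : (⇑(c.π.app i) ⁻¹' A : Set c.pt) = ⇑(c.π.app i) ⁻¹' B) :
    ∃ (j : I) (φ : j ⟶ i), (⇑(D.map φ) ⁻¹' A : Set (D.obj j)) = ⇑(D.map φ) ⁻¹' B := by
  obtain ⟨j₁, φ₁, h₁⟩ := exists_map_preimage_subset hc i hA hB' h.le
  obtain ⟨j₂, φ₂, h₂⟩ := exists_map_preimage_subset hc i hB hA' h.ge
  obtain ⟨k, ψ₁, ψ₂, e⟩ := IsCofiltered.cospan φ₁ φ₂
  refine ⟨k, ψ₁ ≫ φ₁, Set.Subset.antisymm ?_ ?_⟩
  · rw [preimage_comp_eq, preimage_comp_eq]; exact Set.preimage_mono h₁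
  · rw [e, preimage_comp_eq, preimage_comp_eq]; exact Set.preimage_mono h₂

lemma range_π (hc : IsLimit c) (i : I) :
    Set.range ⇑(c.π.app i) = ⋂ (j : I) (φ : j ⟶ i), Set.range ⇑(D.map φ) := by
  refine Set.Subset.antisymm ?_ fun x hx => ?_
  · rintro _ ⟨s, rfl⟩
    simp only [Set.mem_iInter]
    exact fun j φ => ⟨c.π.app j s, π_map_apply φ s⟩
  simp only [Set.mem_iInter] at hx
  obtain ⟨_, ⟨U, hU : IsAffineOpen U, rfl⟩, hxU, -⟩ :=
    (D.obj i).isBasis_affineOpens.exists_subset_of_mem_open (Set.mem_univ x) isOpen_univ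
  obtain ⟨s, -, hs⟩ := exists_mem_affine hc hU (fun j φ => ⇑(D.map φ) ⁻¹' {x})
    (fun j φ => (IsPC.singleton x).preimage _)
    (fun j φ => by
      obtain ⟨w, hw⟩ := hx j φ
      exact ⟨w, hw, show D.map φ w ∈ (U : Set (D.obj i)) by rw [hw]; exact hxU⟩)
    (fun j k ψ φ w hw => by simpa [map_comp_apply] using hw)
  exact ⟨s, by simpa using hs i (𝟙 i)⟩

lemma isBasis_π (hc : IsLimit c) :
    IsTopologicalBasis { S : Set c.pt | ∃ (i : I) (V : (D.obj i).Opens),
      IsAffineOpen V ∧ (⇑(c.π.app i) ⁻¹' (V : Set (D.obj i))) = S } := by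
  have h := isBasis_preimage_isAffineOpen D c hc
  refine IsTopologicalBasis.of_isOpen_of_subset ?_ h ?_
  · rintro _ ⟨i, V, -, rfl⟩
    exact V.2.preimage (c.π.app i).continuous
  · rintro _ ⟨_, ⟨i, V, hV, rfl⟩, rfl⟩
    exact ⟨i, V, hV, rfl⟩

lemma exists_basis_mem (hc : IsLimit c) {O : Set c.pt} (hO : IsOpen O) {s : c.pt} (hs : s ∈ O) :
    ∃ (i : I) (V : (D.obj i).Opens), IsAffineOpen V ∧ c.π.app i s ∈ V ∧
      (⇑(c.π.app i) ⁻¹' (V : Set (D.obj i))) ⊆ O := by
  obtain ⟨_, ⟨i, V, hV, rfl⟩, hsV, hVO⟩ := (isBasis_π hc).exists_subset_of_mem_open hs hO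
  exact ⟨i, V, hV, hsV, hVO⟩

lemma specializes_of_forall (hc : IsLimit c) {z s : c.pt}
    (h : ∀ i, c.π.app i z ⤳ c.π.app i s) : z ⤳ s := by
  refine specializes_iff_forall_open.mpr fun O hO hs => ?_
  obtain ⟨i, V, -, hsV, hVO⟩ := exists_basis_mem hc hO hs
  exact hVO ((h i).mem_open V.2 hsV)

lemma eq_of_forall (hc : IsLimit c) {z s : c.pt}
    (h : ∀ i, c.π.app i z = c.π.app i s) : z = s :=
  Inseparable.eq ((inseparable_iff_specializes_and).mpr
    ⟨specializes_of_forall hc fun i => specializes_of_eq (h i),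
      specializes_of_forall hc fun i => specializes_of_eq (h i).symm⟩)

lemma compactSpace_pt (hc : IsLimit c) (i : I) [CompactSpace (D.obj i)] :
    CompactSpace c.pt := by
  have := isAffineHom_π_app D c hc i
  exact QuasiCompact.compactSpace_of_compactSpace (c.π.app i)

omit [IsCofiltered I] in
lemma compactSpace_stage {i j : I} (φ : j ⟶ i) [CompactSpace (D.obj i)] :
    CompactSpace (D.obj j) :=
  QuasiCompact.compactSpace_of_compactSpace (D.map φ)

omit [IsCofiltered I] in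
lemma quasiSeparatedSpace_stage {i j : I} (φ : j ⟶ i) [QuasiSeparatedSpace (D.obj i)] :
    QuasiSeparatedSpace (D.obj j) :=
  quasiSeparatedSpace_of_quasiSeparated (D.map φ)

lemma quasiSeparatedSpace_pt (hc : IsLimit c) (i : I) [QuasiSeparatedSpace (D.obj i)] :
    QuasiSeparatedSpace c.pt := by
  have := isAffineHom_π_app D c hc i
  exact quasiSeparatedSpace_of_quasiSeparated (c.π.app i)

end Groth.Agent.Lib.LimTop.Points
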