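import Mathlib.AlgebraicGeometry.AffineTransitionLimit
import Mathlib.Topology.Spectral.ConstructibleTopology
import Mathlib.Topology.Category.TopCat.Limits.Konig
import Groth.Prelude.Def_ProCons

/-!
# Sets which are closed for the constructible topology on every affine open

`IsPC Z` says that the trace of `Z` on every affine open is closed for the constructible topology.
-/

universe u

open CategoryTheory CategoryTheory.Limits AlgebraicGeometry TopologicalSpace Topology

namespace Groth.Agent.Lib.LimTop.PC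

section General

variable {X Y : Type*} [TopologicalSpace X] [TopologicalSpace Y]

lemma isOpen_cons {s : Set X} (ho : IsOpen s) (hc : IsCompact s) :
    IsOpen[constructibleTopology X] s :=
  hc.isOpen_constructibleTopology_of_isOpen ho

lemma isClosed_cons {s : Set X} (ho : IsOpen s) (hc : IsCompact s) :
    IsClosed[constructibleTopology X] s :=
  (@isOpen_compl_iff _ _ (constructibleTopology X)).mp
    (IsCompact.isOpen_constructibleTopology_of_isClosed (by simpa using hc) ho.isClosed_compl)

lemma continuous_cons {f : X → Y} (hf : Continuous f)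
    (hs : ∀ s, IsOpen s → IsCompact s → IsCompact (f ⁻¹' s)) :
    Continuous[constructibleTopology X, constructibleTopology Y] f := by
  refine continuous_generateFrom_iff.mpr fun s hs' => ?_
  rcases hs' with ⟨ho, hc⟩ | ⟨hcl, hc⟩
  · exact isOpen_cons (ho.preimage hf) (hs s ho hc)
  · exact IsCompact.isOpen_constructibleTopology_of_isClosed (hs sᶜ hcl.isOpen_compl hc)
      (hcl.preimage hf)

lemma cons_le [PrespectralSpace X] : constructibleTopology X ≤ (‹_› : TopologicalSpace X) := by
  intro s hs
  obtain ⟨S, hS, rfl⟩ := PrespectralSpace.isTopologicalBasis.open_eq_sUnion hs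
  exact @isOpen_sUnion _ (constructibleTopology X) _ fun t ht => isOpen_cons (hS ht).1 (hS ht).2

lemma isClosed_cons_of_isClosed [PrespectralSpace X] {s : Set X} (hs : IsClosed s) :
    IsClosed[constructibleTopology X] s :=
  (@isOpen_compl_iff _ _ (constructibleTopology X)).mp (cons_le (X := X) sᶜ hs.isOpen_compl)

lemma isClopen_cons_of_isConstructible [CompactSpace X] {s : Set X} (hs : IsConstructible s) :
    IsClosed[constructibleTopology X] s ∧ IsOpen[constructibleTopology X] s := by
  induction hs using IsConstructible.empty_union_induction with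
  | open_retrocompact U hUo hUr =>
    exact ⟨isClosed_cons hUo hUr.isCompact, isOpen_cons hUo hUr.isCompact⟩
  | union s _ t _ hs' ht' =>
    exact ⟨@IsClosed.union _ _ _ (constructibleTopology X) hs'.1 ht'.1,
      @IsOpen.union _ _ _ (constructibleTopology X) hs'.2 ht'.2⟩
  | compl s _ hs' =>
    exact ⟨(@isClosed_compl_iff _ (constructibleTopology X) _).mpr hs'.2,
      (@isOpen_compl_iff _ _ (constructibleTopology X)).mpr hs'.1⟩

lemma isClosed_cons_iff {s : Set X} :
    IsClosed[constructibleTopology X] s ↔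
      IsClosed (WithTopology.ofTopology ⁻¹' s : Set (WithConstructibleTopology X)) :=
  ⟨fun h => @IsClosed.preimage _ _ _ (constructibleTopology X) _
      (WithTopology.continuous_ofTopology _) _ h,
    fun h => @IsClosed.preimage _ _ (constructibleTopology X) _ _
      (WithTopology.continuous_toTopology _) _ h⟩

lemma isClosed_cons_preimage {s : Set (WithConstructibleTopology X)} (h : IsClosed s) :
    IsClosed[constructibleTopology X] (WithTopology.toTopology _ ⁻¹' s) :=
  @IsClosed.preimage _ _ (constructibleTopology X) _ _ (WithTopology.continuous_toTopology _) _ h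

instance t2Space_cons [PrespectralSpace X] [T0Space X] :
    T2Space (WithConstructibleTopology X) := by
  have key : ∀ x y : WithConstructibleTopology X, ∀ V : Set X, IsOpen V → IsCompact V →
      x.ofTopology ∈ V → y.ofTopology ∉ V → ∃ u v : Set (WithConstructibleTopology X),
        IsOpen u ∧ IsOpen v ∧ x ∈ u ∧ y ∈ v ∧ Disjoint u v := by
    intro x y V hVo hVc hx hy
    refine ⟨WithTopology.ofTopology ⁻¹' V, WithTopology.ofTopology ⁻¹' Vᶜ,
      @IsOpen.preimage _ _ _ (constructibleTopology X) _
        (WithTopology.continuous_ofTopology _) _ (isOpen_cons hVo hVc),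
      @IsOpen.preimage _ _ _ (constructibleTopology X) _
        (WithTopology.continuous_ofTopology _) _ ?_, hx, hy,
      disjoint_compl_right.preimage _⟩
    exact IsCompact.isOpen_constructibleTopology_of_isClosed (by simpa using hVc)
      hVo.isClosed_compl
  refine ⟨fun x y hxy => ?_⟩
  have hne : x.ofTopology ≠ y.ofTopology := fun h => hxy (WithTopology.ofTopology_injective _ h)
  obtain ⟨U, hUo, (⟨hxU, hyU⟩ | ⟨hyU, hxU⟩)⟩ := exists_isOpen_xor_mem hne
  · obtain ⟨V, ⟨hVo, hVc⟩, hxV, hVU⟩ :=
      PrespectralSpace.isTopologicalBasis.exists_subset_of_mem_open hxU hUo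
    exact key x y V hVo hVc hxV fun h => hyU (hVU h)
  · obtain ⟨V, ⟨hVo, hVc⟩, hyV, hVU⟩ :=
      PrespectralSpace.isTopologicalBasis.exists_subset_of_mem_open hyU hUo
    obtain ⟨u, v, hu, hv, h1, h2, hd⟩ := key y x V hVo hVc hyV fun h => hxU (hVU h)
    exact ⟨v, u, hv, hu, h2, h1, hd.symm⟩

end General

variable {X Y : Scheme.{u}}

/-- The trace of `Z` on every affine open is closed in the constructible topology. -/
def IsPC (Z : Set X) : Prop :=
  ∀ U : X.Opens, IsAffineOpen U →
    IsClosed[constructibleTopology (U : Scheme.{u})] (⇑U.ι ⁻¹' Z)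

lemma compactSpace_of_isAffineOpen {U : X.Opens} (hU : IsAffineOpen U) :
    CompactSpace (U : Scheme.{u}) :=
  have : IsAffine (U : Scheme.{u}) := hU
  inferInstance

/-- Preimages along morphisms between affine opens are continuous for constructible topologies. -/
lemma continuous_cons_of_affine (f : X ⟶ Y) [IsAffine X] [IsAffine Y] :
    Continuous[constructibleTopology X, constructibleTopology Y] ⇑f :=
  continuous_cons f.continuous fun s ho hc => QuasiCompact.isCompact_preimage s ho hc

/-- Closedness for the constructible topology of an affine scheme is local. -/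
lemma isClosed_cons_of_cover {U : X.Opens} (hU : IsAffineOpen U) {Z : Set X}
    (h : ∀ x ∈ U, ∃ W : X.Opens, IsAffineOpen W ∧ x ∈ W ∧ W ≤ U ∧
      IsClosed[constructibleTopology (W : Scheme.{u})] (⇑W.ι ⁻¹' Z)) :
    IsClosed[constructibleTopology (U : Scheme.{u})] (⇑U.ι ⁻¹' Z) := by
  have : IsAffine (U : Scheme.{u}) := hU
  choose W hWa hxW hWU hW using h
  obtain ⟨t, ht⟩ := hU.isCompact.elim_nhds_subcover' (fun x hx => (W x hx : Set X))
    (fun x hx => (W x hx).2.mem_nhds (hxW x hx))
  let incl (x : (U : Set X)) := X.homOfLE (hWU x.1 x.2)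
  have heq : (⇑U.ι ⁻¹' Z : Set (U : Scheme.{u})) =
      ⋃ x ∈ t, ⇑(incl x) '' (⇑(W x.1 x.2).ι ⁻¹' Z) := by
    ext z
    simp only [Set.mem_preimage, Set.mem_iUnion, Set.mem_image]
    constructor
    · intro hz
      obtain ⟨x, hxt, hzx⟩ := Set.mem_iUnion₂.mp (ht (z.2 : z.1 ∈ (U : Set X)))
      exact ⟨x, hxt, ⟨z.1, hzx⟩, hz, Subtype.ext (Scheme.homOfLE_apply ..)⟩
    · rintro ⟨x, -, w, hw, rfl⟩
      have : U.ι (incl x w) = (W x.1 x.2).ι w := Scheme.homOfLE_apply ..
      rwa [this]
  have hcl : ∀ x, IsClosed[constructibleTopology (U : Scheme.{u})]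
      (⇑(incl x) '' (⇑(W x.1 x.2).ι ⁻¹' Z)) := by
    intro x
    have : IsAffine (W x.1 x.2 : Scheme.{u}) := hWa x.1 x.2
    let g : WithConstructibleTopology (W x.1 x.2 : Scheme.{u}) →
        WithConstructibleTopology (U : Scheme.{u}) :=
      fun w => WithTopology.toTopology _ (incl x w.ofTopology)
    have hg : Continuous g :=
      @Continuous.comp _ _ _ _ (constructibleTopology (U : Scheme.{u})) _ _ _
        (WithTopology.continuous_toTopology _)
        (@Continuous.comp _ _ _ _ (constructibleTopology (W x.1 x.2 : Scheme.{u}))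
          (constructibleTopology (U : Scheme.{u})) _ _
          (continuous_cons_of_affine (incl x)) (WithTopology.continuous_ofTopology _))
    have hcpt : IsCompact
        (WithTopology.ofTopology ⁻¹' (⇑(W x.1 x.2).ι ⁻¹' Z) :
          Set (WithConstructibleTopology (W x.1 x.2 : Scheme.{u}))) :=
      (isClosed_cons_iff.mp (hW x.1 x.2)).isCompact
    have := isClosed_cons_preimage (hcpt.image hg).isClosed
    convert this using 1
    ext z
    constructor
    · rintro ⟨w, hw, rfl⟩
      exact ⟨WithTopology.toTopology _ w, hw, rfl⟩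
    · rintro ⟨w, hw, hwz⟩
      exact ⟨w.ofTopology, hw, WithTopology.toTopology_injective _ hwz⟩
  rw [heq]
  exact @isClosed_biUnion_finset _ _ (constructibleTopology (U : Scheme.{u})) _ _ fun x _ => hcl x

namespace IsPC

lemma of_isClosed {Z : Set X} (hZ : IsClosed Z) : IsPC Z := fun U _ =>
  isClosed_cons_of_isClosed (hZ.preimage U.ι.continuous)

lemma univ : IsPC (Set.univ : Set X) := of_isClosed isClosed_univ

lemma empty : IsPC (∅ : Set X) := of_isClosed isClosed_empty

lemma inter {A B : Set X} (hA : IsPC A) (hB : IsPC B) : IsPC (A ∩ B) := fun U hU =>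
  @IsClosed.inter _ _ _ (constructibleTopology (U : Scheme.{u})) (hA U hU) (hB U hU)

lemma union {A B : Set X} (hA : IsPC A) (hB : IsPC B) : IsPC (A ∪ B) := fun U hU =>
  @IsClosed.union _ _ _ (constructibleTopology (U : Scheme.{u})) (hA U hU) (hB U hU)

lemma sdiff {A B : Set X} (hA : IsPC A) (hB : IsPC Bᶜ) : IsPC (A \ B) := hA.inter hB

lemma iInter {ι : Sort*} {A : ι → Set X} (hA : ∀ i, IsPC (A i)) : IsPC (⋂ i, A i) := fun U hU => by
  rw [Set.preimage_iInter]
  exact @isClosed_iInter _ _ (constructibleTopology (U : Scheme.{u})) _ fun i => hA i U hU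

lemma biUnion {ι : Type*} (s : Finset ι) {A : ι → Set X} (hA : ∀ i ∈ s, IsPC (A i)) :
    IsPC (⋃ i ∈ s, A i) := by
  classical
  induction s using Finset.induction with
  | empty => simpa using empty
  | insert a s ha ih =>
    rw [Finset.set_biUnion_insert]
    exact (hA a (by simp)).union (ih fun i hi => hA i (by simp [hi]))

lemma preimage (f : X ⟶ Y) {Z : Set Y} (hZ : IsPC Z) : IsPC (⇑f ⁻¹' Z) := by
  intro U hU
  refine isClosed_cons_of_cover hU fun x hx => ?_
  obtain ⟨_, ⟨V, hV : IsAffineOpen V, rfl⟩, hxV, -⟩ :=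
    Y.isBasis_affineOpens.exists_subset_of_mem_open (Set.mem_univ (f x)) isOpen_univ
  obtain ⟨_, ⟨W, hW : IsAffineOpen W, rfl⟩, hxW, hWle⟩ :=
    X.isBasis_affineOpens.exists_subset_of_mem_open (show x ∈ (U ⊓ f ⁻¹ᵁ V : X.Opens) from ⟨hx, hxV⟩)
      (U ⊓ f ⁻¹ᵁ V).2
  have hWV : W ≤ f ⁻¹ᵁ V := fun y hy => (hWle hy).2
  have : IsAffine (W : Scheme.{u}) := hW
  have : IsAffine (V : Scheme.{u}) := hV
  refine ⟨W, hW, hxW, fun y hy => (hWle hy).1, ?_⟩
  have h := @IsClosed.preimage _ _ (constructibleTopology (W : Scheme.{u}))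
    (constructibleTopology (V : Scheme.{u})) _ (continuous_cons_of_affine (f.resLE V W hWV)) _
    (hZ V hV)
  convert h using 1
  rw [← Set.preimage_comp, ← Set.preimage_comp]
  congr 1
  ext w
  exact (congr($(Scheme.Hom.resLE_comp_ι f hWV) w)).symm

lemma of_isLocallyConstructible {Z : Set X} (hZ : IsLocallyConstructible Z) : IsPC Z :=
  fun U hU => by
    have : IsAffine (U : Scheme.{u}) := hU
    exact (isClopen_cons_of_isConstructible
      (hZ.preimage_of_isOpenEmbedding U.ι.isOpenEmbedding).isConstructible).1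

lemma of_isConstructible {Z : Set X} (hZ : IsConstructible Z) : IsPC Z :=
  of_isLocallyConstructible hZ.isLocallyConstructible

lemma compl_of_isConstructible {Z : Set X} (hZ : IsConstructible Z) : IsPC Zᶜ :=
  of_isConstructible hZ.compl

lemma compl_of_isLocallyConstructible {Z : Set X} (hZ : IsLocallyConstructible Z) : IsPC Zᶜ := by
  refine of_isLocallyConstructible fun x => ?_
  obtain ⟨U, hU, hUo, h⟩ := hZ x
  exact ⟨U, hU, hUo, h.compl⟩

lemma of_isProConstructible {E : Set X} (hE : ProCons.IsProConstructible E) : IsPC E := by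
  intro U hU
  refine isClosed_cons_of_cover hU fun x hx => ?_
  obtain ⟨O, hO, hxO, S, hS, hES⟩ := hE x
  obtain ⟨_, ⟨W, hW : IsAffineOpen W, rfl⟩, hxW, hWle⟩ :=
    X.isBasis_affineOpens.exists_subset_of_mem_open (show x ∈ (U : Set X) ∩ O from ⟨hx, hxO⟩)
      (U.2.inter hO)
  refine ⟨W, hW, hxW, fun y hy => (hWle hy).1, ?_⟩
  have : IsAffine (W : Scheme.{u}) := hW
  let e : ↥(W : Scheme.{u}) → O := fun w => ⟨(Scheme.Opens.ι W) w, (hWle w.2).2⟩
  have he : IsOpenEmbedding e :=
    IsOpenEmbedding.of_comp e hO.isOpenEmbedding_subtypeVal (Scheme.Opens.ι W).isOpenEmbedding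
  have heq : (⇑(Scheme.Opens.ι W) ⁻¹' E : Set (W : Scheme.{u})) = ⋂ T : S, e ⁻¹' (T : Set O) := by
    ext w
    have : ((Scheme.Opens.ι W) w ∈ E) = (e w ∈ ⋂₀ S) := congrFun hES (e w)
    simp only [Set.mem_preimage, this, Set.mem_sInter, Set.mem_iInter, Subtype.forall]
  rw [heq]
  exact @isClosed_iInter _ _ (constructibleTopology (W : Scheme.{u})) _ fun T =>
    (isClopen_cons_of_isConstructible
      ((hS T.1 T.2).preimage_of_isOpenEmbedding he).isConstructible).1

lemma compl_of_isIndConstructible {F : Set X} (hF : ProCons.IsIndConstructible F) : IsPC Fᶜ := by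
  refine of_isProConstructible fun x => ?_
  obtain ⟨O, hO, hxO, S, hS, hES⟩ := hF x
  refine ⟨O, hO, hxO, compl '' S, ?_, ?_⟩
  · rintro _ ⟨T, hT, rfl⟩ y
    obtain ⟨U, hU, hUo, h⟩ := hS T hT y
    exact ⟨U, hU, hUo, h.compl⟩
  · rw [Set.preimage_compl, hES, Set.compl_sUnion]

lemma singleton (x : X) : IsPC ({x} : Set X) := by
  intro U hU
  have : IsAffine (U : Scheme.{u}) := hU
  have hsub : Set.Subsingleton
      (WithTopology.ofTopology ⁻¹' (⇑U.ι ⁻¹' {x}) :
        Set (WithConstructibleTopology (U : Scheme.{u}))) :=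
    fun a ha b hb => WithTopology.ofTopology_injective _
      (U.ι.isOpenEmbedding.injective (ha.trans hb.symm))
  exact isClosed_cons_iff.mpr hsub.isClosed

lemma isCompact [CompactSpace X] {Z : Set X} (hZ : IsPC Z) : IsCompact Z := by
  obtain ⟨s, hs⟩ := CompactSpace.elim_nhds_subcover
    (fun x : X => ((X.affineCover.f (X.affineCover.idx x)).opensRange : Set X))
    (fun x => (X.affineCover.f (X.affineCover.idx x)).opensRange.2.mem_nhds
      (X.affineCover.covers x))
  let U : X → X.Opens := fun x => (X.affineCover.f (X.affineCover.idx x)).opensRange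
  have hU : ∀ x, IsAffineOpen (U x) := fun x => isAffineOpen_opensRange _
  have heq : Z = ⋃ x ∈ s, ⇑(U x).ι '' (⇑(U x).ι ⁻¹' Z) := by
    ext z
    simp only [Set.mem_iUnion, Set.mem_image, Set.mem_preimage]
    constructor
    · intro hz
      obtain ⟨x, hx, hzx⟩ := Set.mem_iUnion₂.mp (hs.ge (Set.mem_univ z))
      exact ⟨x, hx, ⟨z, hzx⟩, hz, rfl⟩
    · rintro ⟨x, -, w, hw, rfl⟩
      exact hw
  rw [heq]
  refine s.isCompact_biUnion fun x _ => IsCompact.image ?_ (U x).ι.continuous
  have : IsAffine (U x : Scheme.{u}) := hU x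
  have h1 : IsCompact (WithTopology.ofTopology ⁻¹' (⇑(U x).ι ⁻¹' Z) :
      Set (WithConstructibleTopology (U x : Scheme.{u}))) :=
    (isClosed_cons_iff.mp (hZ _ (hU x))).isCompact
  have hc : Continuous (fun w : WithConstructibleTopology (U x : Scheme.{u}) => w.ofTopology) :=
    continuous_le_rng cons_le (WithTopology.continuous_ofTopology _)
  have h2 := h1.image hc
  rwa [Set.image_preimage_eq _ (WithTopology.ofTopology_surjective _)] at h2

end IsPC

end Groth.Agent.Lib.LimTop.PC
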