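import Groth.Agent.Lib.LimTop.Points

/-!
# Descending compact opens, constructible sets and inclusions along a limit
-/

universe u

open CategoryTheory CategoryTheory.Limits AlgebraicGeometry TopologicalSpace Topology Opposite
open Groth.Agent.Lib.LimTop.PC Groth.Agent.Lib.LimTop.Points

namespace Groth.Agent.Lib.LimTop.Descend

variable {I : Type u} [SmallCategory I] [IsCofiltered I] {D : I ⥤ Scheme.{u}} {c : Cone D}
  [∀ (i j : I) (f : i ⟶ j), IsAffineHom (D.map f)]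

omit [IsCofiltered I] [∀ (i j : I) (f : i ⟶ j), IsAffineHom (D.map f)] in
lemma subset_comp {i j k : I} (ψ : k ⟶ j) (φ : j ⟶ i) {A B : Set (D.obj i)}
    (h : (⇑(D.map φ) ⁻¹' A : Set (D.obj j)) ⊆ ⇑(D.map φ) ⁻¹' B) :
    (⇑(D.map (ψ ≫ φ)) ⁻¹' A : Set (D.obj k)) ⊆ ⇑(D.map (ψ ≫ φ)) ⁻¹' B := by
  rw [preimage_comp_eq, preimage_comp_eq]; exact Set.preimage_mono h

omit [∀ (i j : I) (f : i ⟶ j), IsAffineHom (D.map f)] in
lemma exists_common_finset {i : I} {α : Type*} (t : Finset α) {P : α → ∀ j, (j ⟶ i) → Prop}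
    (hP : ∀ a j k (ψ : k ⟶ j) (φ : j ⟶ i), P a j φ → P a k (ψ ≫ φ))
    (h : ∀ a ∈ t, ∃ (j : I) (φ : j ⟶ i), P a j φ) :
    ∃ (j : I) (φ : j ⟶ i), ∀ a ∈ t, P a j φ := by
  classical
  choose j φ hφ using h
  obtain ⟨m, hm⟩ := IsCofiltered.inf_objs_exists
    (t.attach.image fun (a : {x // x ∈ t}) => Over.mk (φ a.1 a.2))
  refine ⟨m.left, m.hom, fun a ha => ?_⟩
  obtain ⟨f⟩ := hm (Finset.mem_image_of_mem _ (Finset.mem_attach t ⟨a, ha⟩))
  have hw : f.left ≫ φ a ha = m.hom := Over.w f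
  rw [← hw]
  exact hP a _ _ f.left (φ a ha) (hφ a ha)

omit [∀ (i j : I) (f : i ⟶ j), IsAffineHom (D.map f)] in
lemma exists_common {i : I} {P Q : ∀ j, (j ⟶ i) → Prop}
    (hP : ∀ j k (ψ : k ⟶ j) (φ : j ⟶ i), P j φ → P k (ψ ≫ φ))
    (hQ : ∀ j k (ψ : k ⟶ j) (φ : j ⟶ i), Q j φ → Q k (ψ ≫ φ))
    (h₁ : ∃ (j : I) (φ : j ⟶ i), P j φ) (h₂ : ∃ (j : I) (φ : j ⟶ i), Q j φ) :
    ∃ (j : I) (φ : j ⟶ i), P j φ ∧ Q j φ := by
  obtain ⟨j, φ, hj⟩ := h₁
  obtain ⟨k, ψ, hk⟩ := h₂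
  obtain ⟨m, f, g, e⟩ := IsCofiltered.cospan φ ψ
  exact ⟨m, f ≫ φ, hP _ _ f φ hj, e ▸ hQ _ _ g ψ hk⟩

/-- An inclusion between the preimages of a constructible-closed piece of a quasi-compact open
holds at some stage. -/
lemma exists_map_preimage_inter_subset (hc : IsLimit c) {i : I} (U : (D.obj i).Opens)
    (hU : IsCompact (U : Set (D.obj i))) {A B : Set (D.obj i)} (hA : IsPC A) (hB : IsPC Bᶜ)
    (h : (⇑(c.π.app i) ⁻¹' ((U : Set (D.obj i)) ∩ A) : Set c.pt) ⊆ ⇑(c.π.app i) ⁻¹' B) :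
    ∃ (j : I) (φ : j ⟶ i), (⇑(D.map φ) ⁻¹' ((U : Set (D.obj i)) ∩ A) : Set (D.obj j)) ⊆
      ⇑(D.map φ) ⁻¹' B := by
  obtain ⟨S, hS, hUS⟩ := (D.obj i).isBasis_affineOpens.exists_finite_of_isCompact hU |>.imp
    fun S h => (⟨⟨h.2.1, h.1⟩, h.2.2⟩ : (S.Finite ∧ S ⊆ _) ∧ _)
  obtain ⟨j, φ, hj⟩ := exists_common_finset hS.1.toFinset
    (P := fun (W : (D.obj i).Opens) j φ => (⇑(D.map φ) ⁻¹' ((W : Set (D.obj i)) ∩ A) : Set (D.obj j))
      ⊆ ⇑(D.map φ) ⁻¹' B)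
    (fun W j k ψ φ h => subset_comp ψ φ h) (fun W hW => by
      by_contra! H
      have hWa : IsAffineOpen W := hS.2 (hS.1.mem_toFinset.mp hW)
      obtain ⟨s, hsW, hs⟩ := exists_mem_affine hc hWa (fun j φ => ⇑(D.map φ) ⁻¹' (A \ B))
        (fun j φ => (hA.sdiff hB).preimage _)
        (fun j φ => by
          obtain ⟨w, ⟨hwW, hwA⟩, hwB⟩ := Set.not_subset.mp (H j φ)
          exact ⟨w, ⟨hwA, hwB⟩, hwW⟩)
        (fun j k ψ φ w hw => by simpa [map_comp_apply] using hw)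
      have hs' := hs i (𝟙 i)
      simp only [CategoryTheory.Functor.map_id] at hs'
      have hsU : c.π.app i s ∈ U := by
        rw [hUS]; exact Opens.mem_sSup.mpr ⟨W, hS.1.mem_toFinset.mp hW, hsW⟩
      exact hs'.2 (h ⟨hsU, hs'.1⟩))
  refine ⟨j, φ, fun w hw => ?_⟩
  obtain ⟨W, hW, hwW⟩ := Opens.mem_sSup.mp (hUS ▸ hw.1 : D.map φ w ∈ sSup S)
  exact hj W (hS.1.mem_toFinset.mpr hW) ⟨hwW, hw.2⟩

/-- Variant without the auxiliary set. -/
lemma exists_map_preimage_open_subset (hc : IsLimit c) {i : I} (U : (D.obj i).Opens)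
    (hU : IsCompact (U : Set (D.obj i))) {B : Set (D.obj i)} (hB : IsPC Bᶜ)
    (h : (⇑(c.π.app i) ⁻¹' (U : Set (D.obj i)) : Set c.pt) ⊆ ⇑(c.π.app i) ⁻¹' B) :
    ∃ (j : I) (φ : j ⟶ i), (⇑(D.map φ) ⁻¹' (U : Set (D.obj i)) : Set (D.obj j)) ⊆
      ⇑(D.map φ) ⁻¹' B := by
  simpa using exists_map_preimage_inter_subset hc U hU IsPC.univ hB
    (by simpa using h)

lemma isCompact_inter_affine {X : Scheme.{u}} {Z : Set X} (hZ : IsPC Z) {W : X.Opens}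
    (hW : IsAffineOpen W) : IsCompact ((W : Set X) ∩ Z) := by
  have : CompactSpace (W : Scheme.{u}) := compactSpace_of_isAffineOpen hW
  have := ((hZ.preimage W.ι).isCompact).image W.ι.continuous
  rwa [Set.image_preimage_eq_inter_range, Scheme.Opens.range_ι, Set.inter_comm] at this

lemma isCompact_inter_open {X : Scheme.{u}} {Z : Set X} (hZ : IsPC Z) {U : X.Opens}
    (hU : IsCompact (U : Set X)) : IsCompact ((U : Set X) ∩ Z) := by
  obtain ⟨S, hS, hSf, hUS⟩ := X.isBasis_affineOpens.exists_finite_of_isCompact hU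
  have : (U : Set X) ∩ Z = ⋃ W ∈ S, ((W : Set X) ∩ Z) := by
    rw [hUS, Opens.coe_sSup, Set.iUnion₂_inter]
  rw [this]
  exact hSf.isCompact_biUnion fun W hW => isCompact_inter_affine hZ (hS hW)

lemma isCompact_preimage {i j : I} (φ : j ⟶ i) {U : Set (D.obj i)} (hUo : IsOpen U)
    (hU : IsCompact U) : IsCompact (⇑(D.map φ) ⁻¹' U) :=
  QuasiCompact.isCompact_preimage U hUo hU

lemma isConstructible_preimage {X Y : Scheme.{u}} (f : X ⟶ Y) [QuasiCompact f]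
    [CompactSpace Y] [QuasiSeparatedSpace X] {Z : Set Y} (hZ : IsConstructible Z) :
    IsConstructible (⇑f ⁻¹' Z) :=
  hZ.preimage f.continuous fun s hso hs =>
    (QuasiCompact.isCompact_preimage s hso hs.isCompact).isRetrocompact (hso.preimage f.continuous)

/-- A compact open of the limit comes from a compact open of some stage over a given index. -/
lemma exists_open_preimage_eq (hc : IsLimit c) (i₀ : I) {U : Set c.pt} (hUo : IsOpen U)
    (hU : IsCompact U) :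
    ∃ (i : I) (_ : i ⟶ i₀) (V : (D.obj i).Opens), IsCompact (V : Set (D.obj i)) ∧
      (⇑(c.π.app i) ⁻¹' (V : Set (D.obj i))) = U := by
  obtain ⟨k, V, hV, e⟩ := exists_preimage_eq D c hc ⟨U, hUo⟩ hU
  obtain ⟨m, f, g, -⟩ := IsCofilteredOrEmpty.cone_objs k i₀
  refine ⟨m, g, D.map f ⁻¹ᵁ V, isCompact_preimage f V.2 hV, ?_⟩
  rw [Scheme.Hom.coe_preimage, preimage_π_eq]
  exact congrArg SetLike.coe e

lemma isOpen_preimage_iff (hc : IsLimit c) (i : I) [CompactSpace (D.obj i)]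
    {Z : Set (D.obj i)} (hZ : IsPC Z) (hZ' : IsPC Zᶜ) :
    IsOpen (⇑(c.π.app i) ⁻¹' Z : Set c.pt) ↔
      ∃ (j : I) (φ : j ⟶ i), IsOpen (⇑(D.map φ) ⁻¹' Z) := by
  refine ⟨fun h => ?_, fun ⟨j, φ, h⟩ => ?_⟩
  · have := compactSpace_pt hc i
    obtain ⟨k, φ, V, hV, e⟩ := exists_open_preimage_eq hc i h
      (IsPC.isCompact (X := c.pt) (hZ.preimage (c.π.app i)))
    have := compactSpace_stage (D := D) φ
    have e' : (⇑(c.π.app k) ⁻¹' (V : Set (D.obj k))) = ⇑(c.π.app k) ⁻¹' (⇑(D.map φ) ⁻¹' Z) := by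
      rw [e, preimage_π_eq]
    obtain ⟨j, ψ, h₁, h₂⟩ := exists_common
      (P := fun j ψ => (⇑(D.map ψ) ⁻¹' (V : Set (D.obj k)) : Set (D.obj j)) ⊆
        ⇑(D.map ψ) ⁻¹' (⇑(D.map φ) ⁻¹' Z))
      (Q := fun j ψ => (⇑(D.map ψ) ⁻¹' (⇑(D.map φ) ⁻¹' Z) : Set (D.obj j)) ⊆
        ⇑(D.map ψ) ⁻¹' (V : Set (D.obj k)))
      (fun _ _ ψ φ h => subset_comp ψ φ h) (fun _ _ ψ φ h => subset_comp ψ φ h)
      (exists_map_preimage_open_subset hc V hV (hZ'.preimage (D.map φ)) e'.le)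
      (exists_map_preimage_subset hc k (hZ.preimage _)
        (IsPC.of_isClosed V.2.isClosed_compl) e'.ge)
    exact ⟨j, ψ ≫ φ, by
      rw [preimage_comp_eq, ← h₁.antisymm h₂]; exact V.2.preimage (D.map ψ).continuous⟩
  · rw [← preimage_π_eq φ]; exact h.preimage (c.π.app j).continuous

lemma exists_constructible_preimage_eq (hc : IsLimit c) (i₀ : I) [CompactSpace (D.obj i₀)]
    [QuasiSeparatedSpace (D.obj i₀)] {Z : Set c.pt} (hZ : IsConstructible Z) :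
    ∃ (i : I) (_ : i ⟶ i₀) (Zi : Set (D.obj i)),
      IsConstructible Zi ∧ (⇑(c.π.app i) ⁻¹' Zi : Set c.pt) = Z := by
  have := compactSpace_pt hc i₀
  induction hZ using IsConstructible.empty_union_induction with
  | open_retrocompact U hUo hUr =>
    obtain ⟨k, φ, V, hV, e⟩ := exists_open_preimage_eq hc i₀ hUo hUr.isCompact
    have := quasiSeparatedSpace_stage (D := D) φ
    exact ⟨k, φ, V, hV.isConstructible V.2, e⟩
  | union s _ t _ hs ht =>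
    obtain ⟨j, φ, Zj, hZj, ej⟩ := hs
    obtain ⟨k, ψ, Zk, hZk, ek⟩ := ht
    obtain ⟨m, f, g, e⟩ := IsCofiltered.cospan φ ψ
    have := compactSpace_stage (D := D) φ
    have := compactSpace_stage (D := D) ψ
    have := quasiSeparatedSpace_stage (D := D) (f ≫ φ)
    refine ⟨m, f ≫ φ, ⇑(D.map f) ⁻¹' Zj ∪ ⇑(D.map g) ⁻¹' Zk,
      (isConstructible_preimage _ hZj).union (isConstructible_preimage _ hZk), ?_⟩
    rw [Set.preimage_union, preimage_π_eq, preimage_π_eq, ej, ek]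
  | compl s _ hs =>
    obtain ⟨j, φ, Zj, hZj, ej⟩ := hs
    exact ⟨j, φ, Zjᶜ, hZj.compl, by rw [Set.preimage_compl, ej]⟩

/-- If the preimage of `Z` in the limit is locally closed, it is so at some stage. -/
lemma exists_isLocallyClosed (hc : IsLimit c) (i : I) [CompactSpace (D.obj i)]
    {Z : Set (D.obj i)} (hZ : IsPC Z) (hZ' : IsPC Zᶜ)
    (h : IsLocallyClosed (⇑(c.π.app i) ⁻¹' Z : Set c.pt)) :
    ∃ (j : I) (φ : j ⟶ i), IsLocallyClosed (⇑(D.map φ) ⁻¹' Z) := by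
  have := compactSpace_pt hc i
  set T := (⇑(c.π.app i) ⁻¹' Z : Set c.pt) with hT
  obtain ⟨U, C, hU, hC, hUC⟩ := h
  obtain ⟨S, hS, hSf, hTS⟩ : ∃ S : Set c.pt.Opens, (∀ W ∈ S, IsAffineOpen W ∧ (W : Set c.pt) ⊆ U) ∧
      S.Finite ∧ T ⊆ ⋃ W ∈ S, (W : Set c.pt) := by
    obtain ⟨t, hts, htf, ht⟩ := (IsPC.isCompact (X := c.pt) (hZ.preimage (c.π.app i))).elim_finite_subcover_image
      (b := {W : c.pt.Opens | IsAffineOpen W ∧ (W : Set c.pt) ⊆ U})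
      (c := fun W => (W : Set c.pt)) (fun W _ => W.2) (fun x hx => by
        have hxU : x ∈ U := (hUC ▸ hx : x ∈ U ∩ C).1
        obtain ⟨_, ⟨W, hW, rfl⟩, hxW, hWU⟩ :=
          c.pt.isBasis_affineOpens.exists_subset_of_mem_open hxU hU
        exact Set.mem_iUnion₂.mpr ⟨W, ⟨hW, hWU⟩, hxW⟩)
    exact ⟨t, hts, htf, ht⟩
  let U' : c.pt.Opens := sSup S
  have hTU' : T ⊆ (U' : Set c.pt) := by simpa [U'] using hTS
  have hU'c : IsCompact (U' : Set c.pt) := by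
    simp only [U', Opens.coe_sSup]
    exact hSf.isCompact_biUnion fun W hW => (hS W hW).1.isCompact
  have hU'U : (U' : Set c.pt) ⊆ U := by
    simp only [U', Opens.coe_sSup]
    exact Set.iUnion₂_subset fun W hW => (hS W hW).2
  have hO : IsOpen ((U' : Set c.pt) ∩ Tᶜ) := by
    have : (U' : Set c.pt) ∩ Tᶜ = (U' : Set c.pt) ∩ Cᶜ := by
      ext x
      simp only [Set.mem_inter_iff, Set.mem_compl_iff, and_congr_right_iff]
      intro hx
      rw [hUC]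
      exact not_congr ⟨fun h => h.2, fun h => ⟨hU'U hx, h⟩⟩
    rw [this]; exact U'.2.inter hC.isOpen_compl
  have hOc : IsCompact ((U' : Set c.pt) ∩ Tᶜ) := by
    rw [hT, ← Set.preimage_compl]
    exact isCompact_inter_open (hZ'.preimage _) hU'c
  obtain ⟨j₁, φ₁, V₁, hV₁, eV₁⟩ := exists_open_preimage_eq hc i U'.2 hU'c
  obtain ⟨j₂, φ₂, O₂, hO₂, eO₂⟩ := exists_open_preimage_eq hc i hO hOc
  obtain ⟨m, f, g, e⟩ := IsCofiltered.cospan φ₁ φ₂
  let V : (D.obj m).Opens := D.map f ⁻¹ᵁ V₁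
  let O : (D.obj m).Opens := D.map g ⁻¹ᵁ O₂
  let Zm : Set (D.obj m) := ⇑(D.map (f ≫ φ₁)) ⁻¹' Z
  have hVc : IsCompact (V : Set (D.obj m)) := isCompact_preimage f V₁.2 hV₁
  have hOc' : IsCompact (O : Set (D.obj m)) := isCompact_preimage g O₂.2 hO₂
  have eV : (⇑(c.π.app m) ⁻¹' (V : Set (D.obj m))) = (U' : Set c.pt) := by
    exact (preimage_π_eq f _).trans eV₁
  have eO : (⇑(c.π.app m) ⁻¹' (O : Set (D.obj m))) = (U' : Set c.pt) ∩ Tᶜ := by
    exact (preimage_π_eq g _).trans eO₂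
  have eZ : (⇑(c.π.app m) ⁻¹' Zm) = T := preimage_π_eq (f ≫ φ₁) _
  have := compactSpace_stage (D := D) (f ≫ φ₁)
  obtain ⟨j, ψ, ⟨h₁, h₂⟩, h₃⟩ := exists_common
    (P := fun j ψ => ((⇑(D.map ψ) ⁻¹' (O : Set (D.obj m)) : Set (D.obj j)) ⊆ ⇑(D.map ψ) ⁻¹' Zmᶜ) ∧
      ((⇑(D.map ψ) ⁻¹' (V : Set (D.obj m)) : Set (D.obj j)) ⊆
        ⇑(D.map ψ) ⁻¹' ((O : Set (D.obj m)) ∪ Zm)))
    (Q := fun j ψ => (⇑(D.map ψ) ⁻¹' Zm : Set (D.obj j)) ⊆ ⇑(D.map ψ) ⁻¹' (V : Set (D.obj m)))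
    (fun _ _ ψ φ h => ⟨subset_comp ψ φ h.1, subset_comp ψ φ h.2⟩)
    (fun _ _ ψ φ h => subset_comp ψ φ h)
    (exists_common (fun _ _ ψ φ h => subset_comp ψ φ h) (fun _ _ ψ φ h => subset_comp ψ φ h)
      (exists_map_preimage_open_subset hc O hOc'
        (by rw [compl_compl]; exact hZ.preimage (D.map (f ≫ φ₁)))
        (by rw [Set.preimage_compl, eO, eZ]; exact Set.inter_subset_right))
      (exists_map_preimage_open_subset hc V hVc
        (by rw [Set.compl_union]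
            exact (IsPC.of_isClosed O.2.isClosed_compl).inter (hZ'.preimage (D.map (f ≫ φ₁))))
        (by rw [Set.preimage_union, eV, eO, eZ]
            exact fun x hx => (em (x ∈ T)).elim .inr fun h => .inl ⟨hx, h⟩)))
    (exists_map_preimage_subset hc m (hZ.preimage _) (IsPC.of_isClosed V.2.isClosed_compl)
      (by rw [eV, eZ]; exact hTU'))
  refine ⟨j, ψ ≫ f ≫ φ₁, ⇑(D.map ψ) ⁻¹' (V : Set (D.obj m)),
    (⇑(D.map ψ) ⁻¹' (O : Set (D.obj m)))ᶜ, V.2.preimage (D.map ψ).continuous,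
    (O.2.preimage (D.map ψ).continuous).isClosed_compl, ?_⟩
  rw [preimage_comp_eq]
  ext x
  exact ⟨fun hx => ⟨h₃ hx, fun hxO => h₁ hxO hx⟩,
    fun ⟨hxV, hxO⟩ => (h₂ hxV).elim (fun h => absurd h hxO) id⟩

end Groth.Agent.Lib.LimTop.Descend
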