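import Groth.Agent.Lib.LimTop.Components
import Mathlib.AlgebraicGeometry.Morphisms.Flat
import Mathlib.RingTheory.Flat.EquationalCriterion

/-!
# Flatness, reducedness and stalks along limits
-/

universe u

open CategoryTheory CategoryTheory.Limits AlgebraicGeometry TopologicalSpace Topology Opposite
open Groth.Agent.Lib.LimTop.Points Groth.Agent.Lib.LimTop.Descend

namespace Groth.Agent.Lib.LimTop.Affine

/-- A ring map is flat if every finite family of elements with a relation lifts, with its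
relation, along a factorisation through a flat ring map. -/
lemma flat_of_lifts {A B : Type*} [CommRing A] [CommRing B] (f : A →+* B)
    (H : ∀ (l : ℕ) (a : Fin l → A) (x : Fin l → B), ∑ m, f (a m) * x m = 0 →
      ∃ (C : Type u) (_ : CommRing C) (g : A →+* C) (h : C →+* B) (y : Fin l → C),
        g.Flat ∧ h.comp g = f ∧ (∀ m, h (y m) = x m) ∧ ∑ m, g (a m) * y m = 0) :
    f.Flat := by
  algebraize [f]
  refine Module.Flat.of_forall_isTrivialRelation fun {l} {a} {x} hrel => ?_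
  simp only [Algebra.smul_def, RingHom.algebraMap_toAlgebra] at hrel
  obtain ⟨C, _, g, h, y, hg, hfac, hyx, hy⟩ := H l a x hrel
  letI : Algebra A C := g.toAlgebra
  have : Module.Flat A C := hg
  obtain ⟨k, m, z, hz, hz0⟩ := Module.Flat.isTrivialRelation_of_sum_smul_eq_zero (f := a) (x := y)
    (show ∑ i, a i • y i = 0 from hy)
  refine ⟨k, m, fun j => h (z j), fun i => ?_, hz0⟩
  rw [← hyx i, hz i, map_sum]
  refine Finset.sum_congr rfl fun j _ => ?_
  change h (g (m i j) * z j) = f (m i j) * h (z j)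
  rw [map_mul, ← hfac]
  rfl

variable {I : Type u} [SmallCategory I] [IsCofiltered I] {D : I ⥤ Scheme.{u}} {c : Cone D}

lemma comp_appTop_apply {X Y Z : Scheme.{u}} (f : X ⟶ Y) (g : Y ⟶ Z) (x : Γ(Z, ⊤)) :
    (f ≫ g).appTop x = f.appTop (g.appTop x) := by
  rw [Scheme.Hom.comp_appTop]; rfl

lemma map_appTop_apply {i j : I} (φ : j ⟶ i) (x : Γ(D.obj i, ⊤)) :
    (c.π.app j).appTop ((D.map φ).appTop x) = (c.π.app i).appTop x := by
  rw [← comp_appTop_apply, c.w]

section AllAffine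

variable [∀ i, IsAffine (D.obj i)]

lemma exists_lift_finset (hc : IsLimit c) (i : I) {α : Type*} [Finite α] (x : α → Γ(c.pt, ⊤)) :
    ∃ (j : I) (_ : j ⟶ i) (y : α → Γ(D.obj j, ⊤)), ∀ a, (c.π.app j).appTop (y a) = x a := by
  classical
  cases nonempty_fintype α
  choose k t ht using fun a => exists_appTop_π_eq_of_isAffine_of_isLimit D c hc (x a)
  obtain ⟨m, hm⟩ := IsCofiltered.inf_objs_exists (insert i (Finset.univ.image k))
  let f : ∀ a, m ⟶ k a := fun a =>
    (hm (Finset.mem_insert_of_mem (Finset.mem_image_of_mem k (Finset.mem_univ a)))).some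
  refine ⟨m, (hm (Finset.mem_insert_self _ _)).some, fun a => (D.map (f a)).appTop (t a), fun a => ?_⟩
  rw [map_appTop_apply, ht]

lemma flat_π_of_isAffine (hc : IsLimit c) (i : I)
    (hf : ∀ (j : I) (φ : j ⟶ i), Flat (D.map φ)) : Flat (c.π.app i) := by
  have : IsAffine (((Functor.const I).obj c.pt).obj i) := Scheme.isAffine_of_isLimit _ hc
  rw [HasRingHomProperty.iff_of_isAffine (P := @Flat)]
  refine flat_of_lifts.{u} _ fun l a x hrel => ?_
  obtain ⟨j, φ, y, hy⟩ := exists_lift_finset hc i x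
  obtain ⟨k, ψ, hk⟩ := exists_appTop_map_eq_zero_of_isAffine_of_isLimit D c hc j
    (∑ m, (D.map φ).appTop (a m) * y m) (by
      rw [map_sum]
      simp only [map_mul, map_appTop_apply, hy]
      exact hrel)
  have := hf k (ψ ≫ φ)
  refine ⟨Γ(D.obj k, ⊤), inferInstance, (D.map (ψ ≫ φ)).appTop.hom, (c.π.app k).appTop.hom,
    fun m => (D.map ψ).appTop (y m), Scheme.Hom.flat_appTop (f := D.map (ψ ≫ φ)), ?_, ?_, ?_⟩
  · ext z
    exact map_appTop_apply _ _
  · intro m
    exact (map_appTop_apply ψ (y m)).trans (hy m)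
  · rw [map_sum] at hk
    simp only [map_mul, ← comp_appTop_apply, ← D.map_comp] at hk
    exact hk

lemma exists_not_isReduced_of_isAffine (hc : IsLimit c) (h : ¬ _root_.IsReduced Γ(c.pt, ⊤)) :
    ∃ i : I, ∀ (j : I) (_ : j ⟶ i), ¬ _root_.IsReduced Γ(D.obj j, ⊤) := by
  obtain ⟨x, hx, hx0⟩ : ∃ x : Γ(c.pt, ⊤), IsNilpotent x ∧ x ≠ 0 := by
    by_contra! H
    exact h ⟨fun x hx => H x hx⟩
  obtain ⟨n, hn⟩ := hx
  obtain ⟨i₀⟩ := IsCofiltered.nonempty (C := I)
  obtain ⟨j, -, y, hy⟩ := exists_lift_finset hc i₀ (fun _ : Unit => x)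
  obtain ⟨k, ψ, hk⟩ := exists_appTop_map_eq_zero_of_isAffine_of_isLimit D c hc j ((y ()) ^ n)
    (by rw [map_pow, hy, hn])
  refine ⟨k, fun m χ hred => hx0 ?_⟩
  have h0 : (D.map (χ ≫ ψ)).appTop (y ()) = 0 := by
    refine hred.eq_zero _ ⟨n, ?_⟩
    rw [← map_pow, D.map_comp, comp_appTop_apply, hk, map_zero]
  rw [← hy (), ← map_appTop_apply (χ ≫ ψ), h0, map_zero]

lemma exists_stalk_lift_of_isAffine (hc : IsLimit c) (i : I) (s : c.pt)
    (z : c.pt.presheaf.stalk s) :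
    ∃ (j : I) (_ : j ⟶ i) (U : c.pt.Opens) (hs : s ∈ U) (a b : Γ(D.obj j, ⊤)),
      U ≤ c.pt.basicOpen ((c.π.app j).appTop b) ∧
      z * c.pt.presheaf.germ ⊤ s trivial ((c.π.app j).appTop b) =
        c.pt.presheaf.germ ⊤ s trivial ((c.π.app j).appTop a) := by
  have : IsAffine c.pt := Scheme.isAffine_of_isLimit _ hc
  obtain ⟨x, hx⟩ : ∃ p : Γ(c.pt, ⊤) × (((isAffineOpen_top c.pt).primeIdealOf ⟨s, trivial⟩).asIdeal.primeCompl),
      z * c.pt.presheaf.germ ⊤ s trivial p.2.1 = c.pt.presheaf.germ ⊤ s trivial p.1 := by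
    letI := c.pt.presheaf.algebra_section_stalk (U := ⊤) ⟨s, trivial⟩
    have := (isAffineOpen_top c.pt).isLocalization_stalk ⟨s, trivial⟩
    exact IsLocalization.surj (isAffineOpen_top c.pt |>.primeIdealOf ⟨s, trivial⟩ |>.asIdeal.primeCompl) z
  obtain ⟨j, φ, y, hy⟩ := exists_lift_finset hc i (fun b : Bool => if b then x.1 else x.2.1)
  refine ⟨j, φ, c.pt.basicOpen ((c.π.app j).appTop (y false)), ?_, y true, y false, le_rfl, ?_⟩
  · rw [hy]
    simp only [Bool.false_eq_true, ↓reduceIte]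
    rw [Scheme.mem_basicOpen _ _ _ (by trivial : s ∈ (⊤ : c.pt.Opens))]
    letI := c.pt.presheaf.algebra_section_stalk (U := ⊤) ⟨s, trivial⟩
    have := (isAffineOpen_top c.pt).isLocalization_stalk ⟨s, trivial⟩
    exact IsLocalization.map_units (M := (isAffineOpen_top c.pt |>.primeIdealOf ⟨s, trivial⟩).asIdeal.primeCompl) _ x.2
  · simpa [hy] using hx

end AllAffine

variable [∀ (i j : I) (f : i ⟶ j), IsAffineHom (D.map f)]

lemma flat_π (hc : IsLimit c) (i : I) (hf : ∀ (j : I) (φ : j ⟶ i), Flat (D.map φ)) :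
    Flat (c.π.app i) := by
  let 𝒰 := (D.obj i).affineCover
  have hloc : IsZariskiLocalAtSource @Flat.{u} :=
    HasRingHomProperty.instIsZariskiLocalAtSource (Q := RingHom.Flat)
  refine hloc.of_iSup_eq_top (fun x => c.π.app i ⁻¹ᵁ (𝒰.f x).opensRange)
    (by rw [← Scheme.Hom.preimage_iSup, 𝒰.iSup_opensRange, Scheme.Hom.preimage_top]) fun x => ?_
  set U := (𝒰.f x).opensRange
  have hU : IsAffineOpen U := isAffineOpen_opensRange _
  have : ∀ j, IsAffine ((opensDiagram D i U).obj j) := fun j => hU.preimage (D.map j.hom)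
  have : Flat ((opensCone D c i U).π.app (Over.mk (𝟙 i))) := by
    refine flat_π_of_isAffine (isLimitOpensCone D c hc i U) _ fun j φ => ?_
    have hf' : Flat (D.map φ.left) := by
      have e : φ.left = j.hom := by simpa using Over.w φ
      rw [e]
      exact hf _ _
    exact inferInstanceAs (Flat (Scheme.Hom.resLE _ _ _ _))
  have e : (c.π.app i ⁻¹ᵁ U).ι ≫ c.π.app i =
      (opensCone D c i U).π.app (Over.mk (𝟙 i)) ≫ (D.map (𝟙 i) ⁻¹ᵁ U).ι :=
    (Scheme.Hom.resLE_comp_ι _ _).symm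
  rw [e]
  exact MorphismProperty.comp_mem _ _ _ this (inferInstanceAs (Flat (Scheme.Opens.ι (D.map (𝟙 i) ⁻¹ᵁ U))))

lemma exists_not_isReduced (hc : IsLimit c) (h : ¬ IsReduced c.pt) :
    ∃ i : I, ∀ (j : I) (_ : j ⟶ i), ¬ IsReduced (D.obj j) := by
  obtain ⟨i⟩ := IsCofiltered.nonempty (C := I)
  let 𝒰 := (D.obj i).affineCover
  obtain ⟨x, hx⟩ : ∃ x, ¬ IsReduced (c.π.app i ⁻¹ᵁ (𝒰.f x).opensRange).toScheme := by
    by_contra! H
    refine h ?_
    let 𝒱 := c.pt.openCoverOfIsOpenCover (fun x => c.π.app i ⁻¹ᵁ (𝒰.f x).opensRange)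
      (.mk (by rw [← Scheme.Hom.preimage_iSup, 𝒰.iSup_opensRange, Scheme.Hom.preimage_top]))
    have : ∀ a, IsReduced (𝒱.X a) := H
    exact IsReduced.of_openCover (X := c.pt) 𝒱
  set U := (𝒰.f x).opensRange
  have hU : IsAffineOpen U := isAffineOpen_opensRange _
  have haff : ∀ j, IsAffine ((opensDiagram D i U).obj j) := fun j => hU.preimage (D.map j.hom)
  have : IsAffine (c.π.app i ⁻¹ᵁ U).toScheme :=
    Scheme.isAffine_of_isLimit _ (isLimitOpensCone D c hc i U)
  obtain ⟨k, hk⟩ := exists_not_isReduced_of_isAffine (isLimitOpensCone D c hc i U) (fun hred => hx (by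
    have : _root_.IsReduced Γ((c.π.app i ⁻¹ᵁ U).toScheme, ⊤) := hred
    exact isReduced_of_isAffine_isReduced _))
  refine ⟨k.left, fun j φ hj => hk (Over.mk (φ ≫ k.hom)) (Over.homMk φ rfl) ?_⟩
  exact inferInstanceAs
    (_root_.IsReduced Γ((D.map (φ ≫ k.hom) ⁻¹ᵁ U).toScheme, ⊤))

omit [IsCofiltered I] [∀ (i j : I) (f : i ⟶ j), IsAffineHom (D.map f)] in
lemma isReduced_of_flat_surjective {X Y : Scheme.{u}} (f : X ⟶ Y) [Flat f] [Surjective f]
    [IsReduced X] : IsReduced Y := by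
  have (y : Y) : _root_.IsReduced (Y.presheaf.stalk y) := by
    obtain ⟨x, rfl⟩ := f.surjective y
    algebraize [(f.stalkMap x).hom]
    have : Module.FaithfullyFlat (Y.presheaf.stalk (f x)) (X.presheaf.stalk x) :=
      @Module.FaithfullyFlat.of_flat_of_isLocalHom _ _ _ _ _ _ _
        (Flat.stalkMap f x) (f.toLRSHom.prop x)
    exact isReduced_of_injective _ ‹RingHom.FaithfullyFlat _›.injective
  exact isReduced_of_isReduced_stalk _

lemma exists_stalkMap_eq {P Q R S : Scheme.{u}} (ι : P ⟶ S) [IsOpenImmersion ι] (π : S ⟶ R)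
    (q : P ⟶ Q) (p : Q ⟶ R) (h : q ≫ p = ι ≫ π) (x : P) (a b : Γ(Q, ⊤))
    (z : S.presheaf.stalk (ι x))
    (hb : IsUnit (P.presheaf.germ ⊤ x trivial (q.appTop b)))
    (hz : ι.stalkMap x z * P.presheaf.germ ⊤ x trivial (q.appTop b) =
      P.presheaf.germ ⊤ x trivial (q.appTop a))
    (hp : Function.Surjective (p.stalkMap (q x))) :
    ∃ r, π.stalkMap (ι x) r = z := by
  have ha' : q.stalkMap x (Q.presheaf.germ ⊤ (q x) trivial a) =
      P.presheaf.germ ⊤ x trivial (q.appTop a) := Scheme.Hom.germ_stalkMap_apply q ⊤ x trivial a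
  have hb' : q.stalkMap x (Q.presheaf.germ ⊤ (q x) trivial b) =
      P.presheaf.germ ⊤ x trivial (q.appTop b) := Scheme.Hom.germ_stalkMap_apply q ⊤ x trivial b
  have hbu : IsUnit (Q.presheaf.germ ⊤ (q x) trivial b) := by
    have : IsLocalHom (q.stalkMap x).hom := q.toLRSHom.prop x
    exact IsUnit.of_map (q.stalkMap x).hom _ (by rw [hb']; exact hb)
  obtain ⟨v, hv⟩ := hbu.exists_right_inv
  obtain ⟨r, hr⟩ := hp (Q.presheaf.germ ⊤ (q x) trivial a * v)
  have hpt : (q ≫ p) x = (ι ≫ π) x := by rw [h]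
  refine ⟨R.presheaf.stalkSpecializes (specializes_of_eq hpt.symm) r, ?_⟩
  apply (ConcreteCategory.bijective_of_isIso (ι.stalkMap x)).1
  have h1 : q.stalkMap x (p.stalkMap (q x) r) =
      ι.stalkMap x (π.stalkMap (ι x)
        (R.presheaf.stalkSpecializes (specializes_of_eq hpt.symm) r)) := by
    have h' := congr($(Scheme.Hom.stalkMap_congr_hom (q ≫ p) (ι ≫ π) h x) r)
    rw [Scheme.Hom.stalkMap_comp, Scheme.Hom.stalkMap_comp] at h'
    exact h'
  rw [← h1, hr]
  refine hb.mul_left_injective ?_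
  change q.stalkMap x _ * _ = ι.stalkMap x z * _
  rw [hz, ← ha', ← hb', map_mul, mul_assoc]
  refine (congrArg _ ?_).trans (mul_one _)
  rw [← map_mul, mul_comm, hv, map_one]

/-- The stalk maps of a projection are surjective if those of the transition maps are. -/
lemma surjective_stalkMap_π (hc : IsLimit c) (i : I) (s : c.pt)
    (hs : ∀ (j : I) (φ : j ⟶ i), Function.Surjective ((D.map φ).stalkMap (c.π.app j s))) :
    Function.Surjective ((c.π.app i).stalkMap s) := by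
  obtain ⟨_, ⟨U, hU : IsAffineOpen U, rfl⟩, hsU, -⟩ :=
    (D.obj i).isBasis_affineOpens.exists_subset_of_mem_open
      (Set.mem_univ (c.π.app i s)) isOpen_univ
  have haff : ∀ j, IsAffine ((opensDiagram D i U).obj j) := fun j => hU.preimage (D.map j.hom)
  let s' : (c.π.app i ⁻¹ᵁ U).toScheme := ⟨s, hsU⟩
  intro z
  obtain ⟨j, -, V, hsV, a, b, hVb, hz⟩ := exists_stalk_lift_of_isAffine
    (isLimitOpensCone D c hc i U) (Over.mk (𝟙 i)) s' ((c.π.app i ⁻¹ᵁ U).ι.stalkMap s' z)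
  have e : c.π.app i ⁻¹ᵁ U ≤ c.π.app j.left ⁻¹ᵁ (D.map j.hom ⁻¹ᵁ U) := by
    rw [← Scheme.Hom.comp_preimage, c.w]
  let q : (c.π.app i ⁻¹ᵁ U).toScheme ⟶ (D.map j.hom ⁻¹ᵁ U).toScheme :=
    (c.π.app j.left).resLE _ _ e
  have hpt : (D.map j.hom ⁻¹ᵁ U).ι (q s') = c.π.app j.left s :=
    congr($(Scheme.Hom.resLE_comp_ι _ _) s')
  have hsurj : ∀ y, y = c.π.app j.left s → Function.Surjective ((D.map j.hom).stalkMap y) := by
    rintro _ rfl; exact hs _ _
  have hp : Function.Surjective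
      (((D.map j.hom ⁻¹ᵁ U).ι ≫ D.map j.hom).stalkMap (q s')) := by
    rw [Scheme.Hom.stalkMap_comp]
    exact (ConcreteCategory.bijective_of_isIso ((D.map j.hom ⁻¹ᵁ U).ι.stalkMap _)).2.comp
      (hsurj _ hpt)
  exact exists_stalkMap_eq (c.π.app i ⁻¹ᵁ U).ι (c.π.app i) q
    ((D.map j.hom ⁻¹ᵁ U).ι ≫ D.map j.hom) (by
      rw [← Category.assoc, Scheme.Hom.resLE_comp_ι, Category.assoc, c.w])
    s' a b z
    ((Scheme.mem_basicOpen _ _ _ (by trivial : s' ∈ (⊤ : (c.π.app i ⁻¹ᵁ U).toScheme.Opens))).mp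
      (hVb hsV))
    hz hp

end Groth.Agent.Lib.LimTop.Affine
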