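import Groth.Agent.Lib.LimTop.Affine
import Groth.Agent.Lib.Lim.Basic
import Mathlib.AlgebraicGeometry.Morphisms.UniversallyOpen

/-!
# Open maps and closures along limits
-/

universe u

open CategoryTheory CategoryTheory.Limits AlgebraicGeometry TopologicalSpace Topology
open Groth.Agent.Lib.LimTop.PC Groth.Agent.Lib.LimTop.Points Groth.Agent.Lib.Lim.Basic

namespace Groth.Agent.Lib.LimTop.OpenMap

/-- A point in the closure of a set which is closed for the constructible topology on affine opens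
is a specialization of a point of the set. -/
lemma exists_specializes_of_mem_closure {X : Scheme.{u}} {Z : Set X} (hZ : IsPC Z) {x : X}
    (hx : x ∈ closure Z) : ∃ z ∈ Z, z ⤳ x := by
  obtain ⟨_, ⟨U, hU : IsAffineOpen U, rfl⟩, hxU, -⟩ :=
    X.isBasis_affineOpens.exists_subset_of_mem_open (Set.mem_univ x) isOpen_univ
  have : IsAffine (U : Scheme.{u}) := hU
  let K := {W : Set (U : Scheme.{u}) // IsOpen W ∧ IsCompact W ∧ (⟨x, hxU⟩ : (U : Scheme.{u})) ∈ W}
  let t : K → Set (WithConstructibleTopology (U : Scheme.{u})) := fun W =>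
    WithTopology.ofTopology ⁻¹' (W.1 ∩ ⇑(Scheme.Opens.ι U) ⁻¹' Z)
  have : Nonempty K := ⟨⟨Set.univ, isOpen_univ, isCompact_univ, trivial⟩⟩
  have hcl : ∀ W : K, IsClosed (t W) := fun W => isClosed_cons_iff.mp
    (@IsClosed.inter _ _ _ (constructibleTopology (U : Scheme.{u}))
      (isClosed_cons W.2.1 W.2.2.1) (hZ U hU))
  have hne : ∀ W : K, (t W).Nonempty := by
    intro W
    obtain ⟨z, ⟨w, hwW, rfl⟩, hzZ⟩ := mem_closure_iff.mp hx (⇑(Scheme.Opens.ι U) '' W.1)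
      ((Scheme.Opens.ι U).isOpenEmbedding.isOpenMap _ W.2.1) ⟨⟨x, hxU⟩, W.2.2.2, rfl⟩
    exact ⟨WithTopology.toTopology _ w, hwW, hzZ⟩
  have hd : Directed (· ⊇ ·) t := by
    intro W₁ W₂
    refine ⟨⟨W₁.1 ∩ W₂.1, W₁.2.1.inter W₂.2.1, ?_, W₁.2.2.2, W₂.2.2.2⟩, ?_, ?_⟩
    · exact QuasiSeparatedSpace.inter_isCompact _ _ W₁.2.1 W₁.2.2.1 W₂.2.1 W₂.2.2.1
    · exact Set.preimage_mono fun y hy => ⟨hy.1.1, hy.2⟩
    · exact Set.preimage_mono fun y hy => ⟨hy.1.2, hy.2⟩
  obtain ⟨w, hw⟩ := IsCompact.nonempty_iInter_of_directed_nonempty_isCompact_isClosed t hd hne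
    (fun W => (hcl W).isCompact) hcl
  simp only [Set.mem_iInter] at hw
  refine ⟨(Scheme.Opens.ι U) w.ofTopology, (hw (Classical.arbitrary K)).2, ?_⟩
  have hspec : w.ofTopology ⤳ (⟨x, hxU⟩ : (U : Scheme.{u})) := by
    refine specializes_iff_forall_open.mpr fun O hO hxO => ?_
    obtain ⟨W, ⟨hWo, hWc⟩, hxW, hWO⟩ :=
      PrespectralSpace.isTopologicalBasis.exists_subset_of_mem_open hxO hO
    exact hWO (hw ⟨W, hWo, hWc, hxW⟩).1
  exact hspec.map (Scheme.Opens.ι U).continuous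

/-- Taking closures of pro-constructible sets commutes with flat pullback. -/
lemma closure_preimage_of_flat {X Y : Scheme.{u}} (f : X ⟶ Y) [Flat f] {Z : Set Y} (hZ : IsPC Z) :
    closure (⇑f ⁻¹' Z) = ⇑f ⁻¹' closure Z := by
  refine (f.continuous.closure_preimage_subset Z).antisymm fun x hx => ?_
  obtain ⟨z, hz, hzx⟩ := exists_specializes_of_mem_closure hZ hx
  obtain ⟨x', hx', rfl⟩ := Flat.generalizingMap f hzx
  exact Specializes.mem_closed hx' isClosed_closure (subset_closure hz)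

/-- Cancelling a surjective morphism from an open map. -/
lemma isOpenMap_of_surjective {X Y Z : Scheme.{u}} (g : X ⟶ Y) (f : Y ⟶ Z) (hg : Function.Surjective g)
    (h : IsOpenMap ⇑(g ≫ f)) : IsOpenMap ⇑f := by
  intro U hU
  have := h _ (hU.preimage g.continuous)
  rwa [Scheme.Hom.comp_base, TopCat.coe_comp, Set.image_comp,
    Set.image_preimage_eq U hg] at this

lemma universallyOpen_of_surjective {X Y Z : Scheme.{u}} (g : X ⟶ Y) (f : Y ⟶ Z) [Surjective g]
    [UniversallyOpen (g ≫ f)] : UniversallyOpen f := by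
  refine ⟨fun X' Y' i₁ i₂ f' hf => ?_⟩
  have hsq : IsPullback (pullback.snd g i₁) (pullback.fst g i₁) i₁ g :=
    (IsPullback.of_hasPullback g i₁).flip
  have hs : Function.Surjective ⇑(pullback.snd g i₁) := by
    exact (inferInstance : Surjective (pullback.snd g i₁)).surj
  refine isOpenMap_of_surjective (pullback.snd g i₁) f' hs ?_
  exact UniversallyOpen.universally_isOpenMap (f := g ≫ f) (pullback.fst g i₁) i₂ _
    (hsq.paste_horiz hf)

variable {I : Type u} [SmallCategory I] [IsCofiltered I] {D : I ⥤ Scheme.{u}} {c : Cone D}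
  [∀ (i j : I) (f : i ⟶ j), IsAffineHom (D.map f)]

lemma universallyOpen_π (hc : IsLimit c) (i : I)
    (hs : ∀ (j : I) (φ : j ⟶ i), Surjective (c.π.app j))
    (h : ∀ (j : I) (φ : j ⟶ i), UniversallyOpen (D.map φ)) : UniversallyOpen (c.π.app i) := by
  refine ⟨fun X' Y' i₁ i₂ f' hf => ?_⟩
  have : ∀ {a b : I} (f : a ⟶ b), IsAffineHom (D.map f) := fun f => inferInstance
  have haff : ∀ (a b : Over i) (f : a ⟶ b), IsAffineHom ((bcDiagram D i₂).map f) :=
    fun _ _ f => inferInstance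
  refine ((isBasis_π (isLimitBcCone hc hf)).isOpenMap_iff).mpr ?_
  rintro _ ⟨j, A, -, rfl⟩
  have hsurj : Surjective ((bcCone hf.w).π.app j) :=
    MorphismProperty.of_isPullback (isPullback_bcCone_π hf j).flip (hs j.left j.hom)
  have hopen : IsOpenMap ⇑(pullback.fst i₂ (D.map j.hom)) := by
    have := h j.left j.hom
    exact Scheme.Hom.isOpenMap _
  let π' : X' ⟶ pullback i₂ (D.map j.hom) := (bcCone hf.w).π.app j
  have hsurj' : Function.Surjective ⇑π' := hsurj.surj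
  obtain ⟨A', hA'⟩ : ∃ A' : (pullback i₂ (D.map j.hom)).Opens, A' = A := ⟨A, rfl⟩
  have e : π' ≫ pullback.fst i₂ (D.map j.hom) = f' := bcCone_π_fst hf.w j
  subst hA'
  have himg : ⇑f' '' (⇑π' ⁻¹' (A' : Set _)) =
      ⇑(pullback.fst i₂ (D.map j.hom)) '' (A' : Set _) := by
    conv_rhs => rw [← Set.image_preimage_eq (A' : Set _) hsurj', ← Set.image_comp]
    refine Set.image_congr fun s _ => ?_
    exact (congr($e s)).symm
  exact himg ▸ hopen _ A'.2

lemma isOpenMap_limit_of_stage (hc : IsLimit c) {i₀ i : I} (φ : i ⟶ i₀)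
    {X₀ Y₀ : Scheme.{u}} (f₀ : X₀ ⟶ Y₀) (g₀ : Y₀ ⟶ D.obj i₀)
    {X Y : Scheme.{u}} (f : X ⟶ Y) (g : Y ⟶ c.pt) (qY : Y ⟶ Y₀) (qX : X ⟶ X₀)
    (hY : IsPullback qY g g₀ (c.π.app i₀)) (hX : IsPullback qX f f₀ qY)
    (h : ∀ (j : I) (ψ : j ⟶ i) (Xj Yj : Scheme.{u}) (fj : Xj ⟶ Yj)
      (gj : Yj ⟶ D.obj j) (pY : Yj ⟶ Y₀) (pX : Xj ⟶ X₀),
      IsPullback pY gj g₀ (D.map (ψ ≫ φ)) → IsPullback pX fj f₀ pY → IsOpenMap ⇑fj) :
    IsOpenMap ⇑f := by
  have : ∀ {a b : I} (f : a ⟶ b), IsAffineHom (D.map f) := fun f => inferInstance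
  have hP : IsPullback qX (f ≫ g) (f₀ ≫ g₀) (c.π.app i₀) := hX.paste_vert hY
  have haff : ∀ (a b : Over i₀) (e : a ⟶ b), IsAffineHom ((bcDiagram D (f₀ ≫ g₀)).map e) :=
    fun _ _ e => inferInstance
  intro W hW
  refine isOpen_iff_mem_nhds.mpr ?_
  rintro _ ⟨x, hxW, rfl⟩
  obtain ⟨j, A, -, hxA, hAW⟩ := exists_basis_mem (isLimitBcCone hc hP) hW hxW
  obtain ⟨m, a, b, -⟩ := IsCofilteredOrEmpty.cone_objs j (Over.mk φ)
  have hm : b.left ≫ φ = m.hom := Over.w b
  let fm : pullback (f₀ ≫ g₀) (D.map m.hom) ⟶ pullback g₀ (D.map m.hom) :=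
    pullback.lift (pullback.fst (f₀ ≫ g₀) (D.map m.hom) ≫ f₀)
      (pullback.snd (f₀ ≫ g₀) (D.map m.hom)) (by rw [Category.assoc]; exact pullback.condition)
  have hfm : IsPullback (pullback.fst (f₀ ≫ g₀) (D.map m.hom)) fm f₀
      (pullback.fst g₀ (D.map m.hom)) := by
    refine IsPullback.of_bot ?_ (pullback.lift_fst _ _ _).symm (IsPullback.of_hasPullback g₀ _)
    rw [pullback.lift_snd]
    exact IsPullback.of_hasPullback _ _
  have hopen : IsOpenMap ⇑fm := by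
    refine h m.left b.left _ _ fm (pullback.snd g₀ (D.map m.hom)) _ _ ?_ hfm
    rw [hm]
    exact IsPullback.of_hasPullback g₀ (D.map m.hom)
  let πX : X ⟶ pullback (f₀ ≫ g₀) (D.map m.hom) := (bcCone hP.w).π.app m
  let πY : Y ⟶ pullback g₀ (D.map m.hom) := (bcCone hY.w).π.app m
  have e1 : πX ≫ pullback.fst _ _ = qX := bcCone_π_fst hP.w m
  have e2 : πX ≫ pullback.snd _ _ = (f ≫ g) ≫ c.π.app m.left := bcCone_π_snd hP.w m
  have e3 : πY ≫ pullback.fst _ _ = qY := bcCone_π_fst hY.w m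
  have e4 : πY ≫ pullback.snd _ _ = g ≫ c.π.app m.left := bcCone_π_snd hY.w m
  have hsq : IsPullback πX f fm πY := by
    refine IsPullback.of_right ?_ ?_ hfm
    · rw [e1, e3]; exact hX
    · apply pullback.hom_ext
      · rw [Category.assoc, Category.assoc, pullback.lift_fst, e3, reassoc_of% e1]
        exact hX.w
      · rw [Category.assoc, Category.assoc, pullback.lift_snd, e2, e4, Category.assoc]
  let t : pullback (f₀ ≫ g₀) (D.map m.hom) ⟶ (bcDiagram D (f₀ ≫ g₀)).obj j :=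
    (bcDiagram D (f₀ ≫ g₀)).map a
  have key := Scheme.image_preimage_eq_of_isPullback hsq (⇑t ⁻¹' (A : Set _))
  have heq : (⇑πX ⁻¹' (⇑t ⁻¹' (A : Set _))) =
      ⇑((bcCone hP.w).π.app j) ⁻¹' (A : Set _) := preimage_π_eq (c := bcCone hP.w) a _
  refine mem_nhds_iff.mpr ⟨_, ?_,
    (hopen _ (A.2.preimage t.continuous)).preimage
      πY.continuous, ?_⟩
  · refine key.symm.subset.trans ?_
    rw [heq]
    exact Set.image_mono hAW
  · exact key.le ⟨x, heq.ge hxA, rfl⟩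

end Groth.Agent.Lib.LimTop.OpenMap
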