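import Groth.Agent.Lib.LimTop.Descend
import Mathlib.Topology.NoetherianSpace

/-!
# Connected and irreducible components of limits
-/

universe u

open CategoryTheory CategoryTheory.Limits AlgebraicGeometry TopologicalSpace Topology Opposite
open Groth.Agent.Lib.LimTop.PC Groth.Agent.Lib.LimTop.Points Groth.Agent.Lib.LimTop.Descend

namespace Groth.Agent.Lib.LimTop.Components

variable {I : Type u} [SmallCategory I] [IsCofiltered I] {D : I ⥤ Scheme.{u}} {c : Cone D}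
  [∀ (i j : I) (f : i ⟶ j), IsAffineHom (D.map f)]

lemma exists_isEmpty (hc : IsLimit c) (i : I) [CompactSpace (D.obj i)] [IsEmpty c.pt] :
    ∃ (j : I) (φ : j ⟶ i), IsEmpty (D.obj j) := by
  obtain ⟨j, φ, h⟩ := exists_map_preimage_eq_empty hc i IsPC.univ (Set.eq_empty_of_isEmpty _)
  exact ⟨j, φ, ⟨fun x => (Set.eq_empty_iff_forall_notMem.mp h x) trivial⟩⟩

lemma denseRange_π (hc : IsLimit c) (i : I)
    (hd : ∀ (j : I) (φ : j ⟶ i), DenseRange ⇑(D.map φ)) : DenseRange ⇑(c.π.app i) := by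
  refine dense_iff_inter_open.mpr fun O hO ⟨x, hx⟩ => ?_
  obtain ⟨_, ⟨V, hV : IsAffineOpen V, rfl⟩, hxV, hVO⟩ :=
    (D.obj i).isBasis_affineOpens.exists_subset_of_mem_open hx hO
  obtain ⟨s, hs, -⟩ := exists_mem_affine hc hV
    (fun j φ => Set.univ) (fun j φ => IsPC.univ)
    (fun j φ => by
      obtain ⟨_, hyV, w, rfl⟩ :=
        dense_iff_inter_open.mp (hd j φ) (V : Set (D.obj i)) V.2 ⟨x, hxV⟩
      exact ⟨w, trivial, hyV⟩)
    (fun _ _ _ _ _ _ => trivial)
  exact ⟨_, hVO hs, s, rfl⟩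

/-- Two nonempty opens of the limit contain preimages of nonempty opens of one stage. -/
lemma exists_two_basis (hc : IsLimit c) (i : I) {U V : Set c.pt} (hU : IsOpen U) (hV : IsOpen V)
    (hUn : U.Nonempty) (hVn : V.Nonempty) :
    ∃ (j : I) (_ : j ⟶ i) (U' V' : (D.obj j).Opens),
      IsCompact (U' : Set (D.obj j)) ∧ IsCompact (V' : Set (D.obj j)) ∧
      (⇑(c.π.app j) ⁻¹' (U' : Set (D.obj j))) ⊆ U ∧ (⇑(c.π.app j) ⁻¹' (V' : Set (D.obj j))) ⊆ V ∧
      (⇑(c.π.app j) ⁻¹' (U' : Set (D.obj j))).Nonempty ∧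
      (⇑(c.π.app j) ⁻¹' (V' : Set (D.obj j))).Nonempty := by
  obtain ⟨x, hx⟩ := hUn
  obtain ⟨y, hy⟩ := hVn
  obtain ⟨a, A, hA, hxA, hAU⟩ := exists_basis_mem hc hU hx
  obtain ⟨b, B, hB, hyB, hBV⟩ := exists_basis_mem hc hV hy
  obtain ⟨m, f, g, -⟩ := IsCofilteredOrEmpty.cone_objs a b
  obtain ⟨n, h, k, -⟩ := IsCofilteredOrEmpty.cone_objs m i
  refine ⟨n, k, D.map (h ≫ f) ⁻¹ᵁ A, D.map (h ≫ g) ⁻¹ᵁ B,
    Descend.isCompact_preimage _ A.2 hA.isCompact, Descend.isCompact_preimage _ B.2 hB.isCompact,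
    ?_, ?_, ?_, ?_⟩
  · exact (preimage_π_eq (h ≫ f) _).trans_subset hAU
  · exact (preimage_π_eq (h ≫ g) _).trans_subset hBV
  · exact ⟨x, (preimage_π_eq (h ≫ f) (A : Set (D.obj a))).symm ▸ hxA⟩
  · exact ⟨y, (preimage_π_eq (h ≫ g) (B : Set (D.obj b))).symm ▸ hyB⟩

lemma eventually_not_irreducibleSpace (hc : IsLimit c) (i₀ : I) [CompactSpace (D.obj i₀)]
    [QuasiSeparatedSpace (D.obj i₀)] (h : ¬ IrreducibleSpace c.pt) :
    ∃ (i : I) (_ : i ⟶ i₀), ∀ (j : I) (_ : j ⟶ i), ¬ IrreducibleSpace (D.obj j) := by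
  rcases isEmpty_or_nonempty c.pt with he | hne
  · obtain ⟨i, φ, hi⟩ := exists_isEmpty hc i₀
    refine ⟨i, φ, fun j ψ hj => ?_⟩
    obtain ⟨x⟩ := hj.toNonempty
    exact hi.false (D.map ψ x)
  obtain ⟨U, V, hU, hV, hUn, hVn, hUV⟩ : ∃ U V : Set c.pt,
      IsOpen U ∧ IsOpen V ∧ U.Nonempty ∧ V.Nonempty ∧ U ∩ V = ∅ := by
    by_contra! H
    refine h { isPreirreducible_univ := ?_, toNonempty := hne }
    intro U V hU hV hUn hVn
    simp only [Set.univ_inter] at hUn hVn ⊢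
    exact H U V hU hV hUn hVn
  obtain ⟨m, φ, U', V', hU', hV', hU's, hV's, hU'n, hV'n⟩ := exists_two_basis hc i₀ hU hV hUn hVn
  have := quasiSeparatedSpace_stage (D := D) φ
  obtain ⟨i, ψ, hi⟩ := exists_map_preimage_open_subset hc U' hU'
    (B := (V' : Set (D.obj m))ᶜ)
    (by rw [compl_compl]; exact IsPC.of_isConstructible (hV'.isConstructible V'.2))
    (fun s hs hs' => Set.eq_empty_iff_forall_notMem.mp hUV s ⟨hU's hs, hV's hs'⟩)
  refine ⟨i, ψ ≫ φ, fun j χ hj => ?_⟩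
  obtain ⟨s, hs⟩ := hU'n
  obtain ⟨t, ht⟩ := hV'n
  have key : ∀ {W : (D.obj m).Opens} {r : c.pt}, r ∈ (⇑(c.π.app m) ⁻¹' (W : Set (D.obj m))) →
      ((⇑(D.map (χ ≫ ψ)) ⁻¹' (W : Set (D.obj m))) : Set (D.obj j)).Nonempty :=
    fun {W r} hr => ⟨c.π.app j r, by rwa [Set.mem_preimage, π_map_apply]⟩
  obtain ⟨x, hxU, hxV⟩ := nonempty_preirreducible_inter (U'.2.preimage (D.map (χ ≫ ψ)).continuous)
    (V'.2.preimage (D.map (χ ≫ ψ)).continuous) (key hs) (key ht)
  rw [preimage_comp_eq] at hxU hxV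
  exact hi hxU hxV

lemma irreducibleSpace_of_eventually (hc : IsLimit c) (i₀ : I) [CompactSpace (D.obj i₀)]
    (hd : ∀ (j : I) (_ : j ⟶ i₀), DenseRange ⇑(c.π.app j))
    {i : I} (φ : i ⟶ i₀) (h : ∀ (j : I) (_ : j ⟶ i), IrreducibleSpace (D.obj j)) :
    IrreducibleSpace c.pt := by
  have hne : Nonempty c.pt := by
    obtain ⟨x⟩ := (h i (𝟙 i)).toNonempty
    obtain ⟨_, -, s, -⟩ := dense_iff_inter_open.mp (hd i φ) Set.univ isOpen_univ ⟨x, trivial⟩
    exact ⟨s⟩
  refine { isPreirreducible_univ := ?_, toNonempty := hne }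
  intro U V hU hV hUn hVn
  simp only [Set.univ_inter] at hUn hVn ⊢
  obtain ⟨m, ψ, U', V', -, -, hU's, hV's, ⟨s, hs⟩, ⟨t, ht⟩⟩ := exists_two_basis hc i hU hV hUn hVn
  have := h m ψ
  have hne := nonempty_preirreducible_inter U'.2 V'.2 ⟨_, hs⟩ ⟨_, ht⟩
  obtain ⟨_, hyUV, r, rfl⟩ := dense_iff_inter_open.mp (hd m (ψ ≫ φ)) _ (U'.2.inter V'.2) hne
  exact ⟨r, hU's hyUV.1, hV's hyUV.2⟩

lemma irreducibleSpace_stage (i₀ : I) (hd : ∀ (j : I) (_ : j ⟶ i₀), DenseRange ⇑(c.π.app j))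
    [IrreducibleSpace c.pt] (j : I) (φ : j ⟶ i₀) : IrreducibleSpace (D.obj j) := by
  have := ((IrreducibleSpace.isIrreducible_univ c.pt).image _
    (c.π.app j).continuous.continuousOn).closure
  rw [Set.image_univ, (hd j φ).closure_range] at this
  exact (irreducibleSpace_def _).mpr this

/-- A finite family of pairwise disjoint quasi-compact open pieces covering the limit descends,
under dominance, to a partition of a stage into opens. -/
lemma exists_partition (hc : IsLimit c) (i₀ : I) [CompactSpace (D.obj i₀)]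
    (hd : ∀ (j : I) (_ : j ⟶ i₀), DenseRange ⇑(c.π.app j)) {α : Type*} [Finite α]
    (U : α → Set c.pt) (hU : ∀ a, IsOpen (U a)) (hUc : ∀ a, IsCompact (U a))
    (hdisj : Pairwise fun a b => Disjoint (U a) (U b)) (hcov : ⋃ a, U a = Set.univ) :
    ∃ (i : I) (_ : i ⟶ i₀), ∀ (j : I) (_ : j ⟶ i), ∃ V : α → (D.obj j).Opens,
      (∀ a, (⇑(c.π.app j) ⁻¹' (V a : Set (D.obj j))) = U a) ∧
      (Pairwise fun a b => Disjoint (V a : Set (D.obj j)) (V b : Set (D.obj j))) ∧
      ⋃ a, (V a : Set (D.obj j)) = Set.univ := by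
  cases nonempty_fintype α
  choose k φ V hV hVU using fun a => exists_open_preimage_eq hc i₀ (hU a) (hUc a)
  obtain ⟨m, f, hm⟩ := exists_common_finset (Finset.univ : Finset α) (i := i₀)
    (P := fun a j ψ => ∃ W : (D.obj j).Opens, (⇑(c.π.app j) ⁻¹' (W : Set (D.obj j))) = U a)
    (fun a j l ψ χ ⟨W, hW⟩ => ⟨D.map ψ ⁻¹ᵁ W, (preimage_π_eq ψ _).trans hW⟩)
    (fun a _ => ⟨k a, φ a, V a, hVU a⟩)
  choose W hW using fun a => hm a (Finset.mem_univ a)
  have := compactSpace_stage (D := D) f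
  obtain ⟨i, g, hi⟩ := exists_map_preimage_subset hc m (A := Set.univ)
    (B := ⋃ a, (W a : Set (D.obj m))) IsPC.univ
    (IsPC.of_isClosed (isOpen_iUnion fun a => (W a).2).isClosed_compl)
    (fun s _ => by
      have : s ∈ ⋃ a, U a := hcov ▸ trivial
      simpa [Set.mem_iUnion, ← hW] using this)
  refine ⟨i, g ≫ f, fun j ψ => ⟨fun a => D.map (ψ ≫ g) ⁻¹ᵁ W a, fun a => ?_, fun a b hab => ?_, ?_⟩⟩
  · exact (preimage_π_eq (ψ ≫ g) _).trans (hW a)
  · dsimp only
    rw [Set.disjoint_iff_inter_eq_empty]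
    by_contra! hne
    obtain ⟨_, ⟨hya, hyb⟩, s, rfl⟩ := dense_iff_inter_open.mp (hd j (ψ ≫ g ≫ f)) _
      ((D.map (ψ ≫ g) ⁻¹ᵁ W a).2.inter (D.map (ψ ≫ g) ⁻¹ᵁ W b).2) hne
    exact Set.disjoint_left.mp (hdisj hab)
      (((preimage_π_eq (ψ ≫ g) _).trans (hW a)).le hya)
      (((preimage_π_eq (ψ ≫ g) _).trans (hW b)).le hyb)
  · refine Set.eq_univ_of_forall fun x => ?_
    have := hi (show D.map ψ x ∈ ⇑(D.map g) ⁻¹' Set.univ from trivial)
    simp only [Set.mem_preimage, Set.mem_iUnion] at this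
    obtain ⟨a, ha⟩ := this
    refine Set.mem_iUnion.mpr ⟨a, ?_⟩
    change D.map (ψ ≫ g) x ∈ W a
    rw [map_comp_apply]; exact ha

lemma preconnectedSpace_of_eventually (hc : IsLimit c) (i₀ : I) [CompactSpace (D.obj i₀)]
    (hd : ∀ (j : I) (_ : j ⟶ i₀), DenseRange ⇑(c.π.app j))
    {i : I} (φ : i ⟶ i₀) (h : ∀ (j : I) (_ : j ⟶ i), PreconnectedSpace (D.obj j)) :
    PreconnectedSpace c.pt := by
  have := compactSpace_pt hc i₀
  refine preconnectedSpace_iff_clopen.mpr fun U hU => ?_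
  by_contra! hne
  obtain ⟨s, hs⟩ := hne.1
  obtain ⟨t, ht⟩ := (Set.ne_univ_iff_exists_notMem U).mp hne.2
  have := compactSpace_stage (D := D) φ
  obtain ⟨m, ψ, hm⟩ := exists_partition hc i (fun j χ => hd j (χ ≫ φ))
    (fun b : Bool => if b then U else Uᶜ)
    (fun b => by cases b <;> simp [hU.2, hU.1.isOpen_compl])
    (fun b => by cases b <;> simp [hU.1.isCompact, hU.compl.1.isCompact])
    (fun a b hab => by
      cases a <;> cases b <;> simp_all [disjoint_compl_right, disjoint_compl_left])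
    (by
      ext x
      by_cases hx : x ∈ U <;> simp [hx])
  obtain ⟨V, hV, hVd, hVc⟩ := hm m (𝟙 m)
  have hVcompl : (V false : Set (D.obj m)) = (V true : Set (D.obj m))ᶜ := by
    refine Set.Subset.antisymm (fun x hx hx' => Set.disjoint_left.mp (hVd (by simp : false ≠ true))
      hx hx') fun x hx => ?_
    have : x ∈ ⋃ a, (V a : Set (D.obj m)) := hVc ▸ trivial
    obtain ⟨a, ha⟩ := Set.mem_iUnion.mp this
    cases a
    · exact ha
    · exact absurd ha hx
  have hcl : IsClopen (V true : Set (D.obj m)) :=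
    ⟨⟨hVcompl ▸ (V false).2⟩, (V true).2⟩
  have := h m ψ
  rcases isClopen_iff.mp hcl with h0 | h1
  · exact Set.eq_empty_iff_forall_notMem.mp h0 (c.π.app m s)
      (show s ∈ (⇑(c.π.app m) ⁻¹' (V true : Set (D.obj m)) : Set c.pt) by rw [hV]; exact hs)
  · have : t ∈ (⇑(c.π.app m) ⁻¹' (V true : Set (D.obj m)) : Set c.pt) := by rw [h1]; trivial
    rw [hV] at this
    exact ht this

lemma eventually_not_preconnectedSpace (hc : IsLimit c) (i₀ : I) [CompactSpace (D.obj i₀)]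
    [QuasiSeparatedSpace (D.obj i₀)] (h : ¬ PreconnectedSpace c.pt) :
    ∃ (i : I) (_ : i ⟶ i₀), ∀ (j : I) (_ : j ⟶ i), ¬ PreconnectedSpace (D.obj j) := by
  have := compactSpace_pt hc i₀
  rw [preconnectedSpace_iff_clopen] at h
  push Not at h
  obtain ⟨U, hU, hUn, hUu⟩ := h
  obtain ⟨k₁, φ₁, V₁, hV₁, e₁⟩ := exists_open_preimage_eq hc i₀ hU.2 hU.1.isCompact
  obtain ⟨k₂, φ₂, V₂, hV₂, e₂⟩ := exists_open_preimage_eq hc i₀ hU.compl.2 hU.compl.1.isCompact
  obtain ⟨m, f, g, e⟩ := IsCofiltered.cospan φ₁ φ₂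
  let A : (D.obj m).Opens := D.map f ⁻¹ᵁ V₁
  let B : (D.obj m).Opens := D.map g ⁻¹ᵁ V₂
  have eA : (⇑(c.π.app m) ⁻¹' (A : Set (D.obj m))) = U := (preimage_π_eq f _).trans e₁
  have eB : (⇑(c.π.app m) ⁻¹' (B : Set (D.obj m))) = Uᶜ := (preimage_π_eq g _).trans e₂
  have := compactSpace_stage (D := D) (f ≫ φ₁)
  have := quasiSeparatedSpace_stage (D := D) (f ≫ φ₁)
  have hBc : IsCompact (B : Set (D.obj m)) := Descend.isCompact_preimage g V₂.2 hV₂
  obtain ⟨i, ψ, hd, hcov⟩ := exists_common (i := m)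
    (P := fun j ψ => (⇑(D.map ψ) ⁻¹' (A : Set (D.obj m)) : Set (D.obj j)) ⊆
      ⇑(D.map ψ) ⁻¹' (B : Set (D.obj m))ᶜ)
    (Q := fun j ψ => (⇑(D.map ψ) ⁻¹' Set.univ : Set (D.obj j)) ⊆
      ⇑(D.map ψ) ⁻¹' ((A : Set (D.obj m)) ∪ B))
    (fun _ _ ψ φ h => subset_comp ψ φ h) (fun _ _ ψ φ h => subset_comp ψ φ h)
    (exists_map_preimage_open_subset hc A (Descend.isCompact_preimage f V₁.2 hV₁)
      (by rw [compl_compl]; exact IsPC.of_isConstructible (hBc.isConstructible B.2))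
      (by rw [Set.preimage_compl, eA, eB, compl_compl]))
    (exists_map_preimage_subset hc m IsPC.univ
      (IsPC.of_isClosed (A.2.union B.2).isClosed_compl)
      (by rw [Set.preimage_union, eA, eB, Set.union_compl_self]; exact fun _ _ => trivial))
  refine ⟨i, ψ ≫ f ≫ φ₁, fun j χ hj => ?_⟩
  have hd' := subset_comp χ ψ hd
  have hcov' := subset_comp χ ψ hcov
  let A' := D.map (χ ≫ ψ) ⁻¹ᵁ A
  let B' := D.map (χ ≫ ψ) ⁻¹ᵁ B
  have hcompl : (B' : Set (D.obj j)) = (A' : Set (D.obj j))ᶜ :=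
    Set.Subset.antisymm (fun x hx hx' => hd' hx' hx)
      fun x hx => (hcov' (Set.mem_univ (D.map (χ ≫ ψ) x))).resolve_left hx
  have hcl : IsClopen (A' : Set (D.obj j)) := ⟨⟨hcompl ▸ B'.2⟩, A'.2⟩
  rcases isClopen_iff.mp hcl with h0 | h1
  · obtain ⟨s, hs⟩ := hUn
    refine Set.eq_empty_iff_forall_notMem.mp h0 (c.π.app j s) ?_
    change D.map (χ ≫ ψ) (c.π.app j s) ∈ A
    rw [π_map_apply]
    exact eA.ge hs
  · obtain ⟨t, ht⟩ := (Set.ne_univ_iff_exists_notMem U).mp hUu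
    have : D.map (χ ≫ ψ) (c.π.app j t) ∈ A := h1.ge (Set.mem_univ _)
    rw [π_map_apply] at this
    exact ht (eA.le this)

lemma eventually_bijOn_irreducibleComponents (hc : IsLimit c) (i₀ : I)
    [TopologicalSpace.NoetherianSpace c.pt]
    (hd : ∀ (j : I) (_ : j ⟶ i₀), DenseRange ⇑(c.π.app j)) :
    ∃ (i : I) (_ : i ⟶ i₀), ∀ (j : I) (_ : j ⟶ i),
      Set.BijOn (fun Y : Set c.pt => closure (⇑(c.π.app j) '' (Y : Set c.pt) : Set (D.obj j)))
        (irreducibleComponents c.pt) (irreducibleComponents (D.obj j)) := by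
  have hfin := TopologicalSpace.NoetherianSpace.finite_irreducibleComponents (α := c.pt)
  set S := irreducibleComponents c.pt with hS
  obtain ⟨i, φ, hi⟩ := exists_common_finset (i := i₀) (hfin.toFinset ×ˢ hfin.toFinset)
    (P := fun p j _ => p.1 = p.2 ∨
      ¬ closure (⇑(c.π.app j) '' p.1 : Set (D.obj j)) ⊆ closure (⇑(c.π.app j) '' p.2))
    (fun p j k ψ φ h => h.imp id fun h hsub => h (by
      have h1 : closure (⇑(D.map ψ) '' closure (⇑(c.π.app k) '' p.1)) ⊆
          closure (⇑(D.map ψ) '' closure (⇑(c.π.app k) '' p.2)) :=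
        closure_mono (Set.image_mono hsub)
      have hcomp : ∀ A : Set c.pt, closure (⇑(D.map ψ) '' closure (⇑(c.π.app k) '' A)) =
          closure (⇑(c.π.app j) '' A) := by
        intro A
        rw [closure_image_closure (D.map ψ).continuous, ← Set.image_comp]
        exact congrArg closure (Set.image_congr fun s _ => π_map_apply ψ s)
      rwa [hcomp, hcomp] at h1))
    (fun p hp => by
      obtain ⟨h1, h2⟩ := Finset.mem_product.mp hp
      by_cases h : p.1 = p.2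
      · exact ⟨i₀, 𝟙 _, .inl h⟩
      obtain ⟨x, hx1, hx2⟩ : (p.1 ∩ (p.2)ᶜ).Nonempty := by
        by_contra! he
        refine h (Set.Subset.antisymm ?_ ?_)
        · exact fun x hx => by_contra fun hx' => Set.eq_empty_iff_forall_notMem.mp he x ⟨hx, hx'⟩
        · refine (hfin.mem_toFinset.mp h1).2 (hfin.mem_toFinset.mp h2).1 ?_
          exact fun x hx => by_contra fun hx' => Set.eq_empty_iff_forall_notMem.mp he x ⟨hx, hx'⟩
      obtain ⟨k, V, -, hxV, hV⟩ := exists_basis_mem hc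
        (isClosed_of_mem_irreducibleComponents _ (hfin.mem_toFinset.mp h2)).isOpen_compl hx2
      obtain ⟨m, f, g, -⟩ := IsCofilteredOrEmpty.cone_objs k i₀
      refine ⟨m, g, .inr fun hsub => ?_⟩
      have hm : c.π.app m x ∈ D.map f ⁻¹ᵁ V := by
        change D.map f (c.π.app m x) ∈ V
        rw [π_map_apply]; exact hxV
      obtain ⟨_, hyV, y, hy, rfl⟩ := mem_closure_iff.mp (hsub (subset_closure ⟨x, hx1, rfl⟩)) _
        (D.map f ⁻¹ᵁ V).2 hm
      refine hV ?_ hy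
      change c.π.app k y ∈ V
      rw [← π_map_apply f]
      exact hyV)
  refine ⟨i, φ, fun j ψ => ?_⟩
  set F := fun Y : Set c.pt => closure (⇑(c.π.app j) '' Y : Set (D.obj j))
  have hsep : ∀ Y ∈ S, ∀ Y' ∈ S, F Y ⊆ F Y' → Y = Y' := by
    intro Y hY Y' hY' hsub
    rcases hi (Y, Y') (Finset.mem_product.mpr ⟨hfin.mem_toFinset.mpr hY, hfin.mem_toFinset.mpr hY'⟩)
      with h | h
    · exact h
    · refine absurd ?_ h
      have hcomp : ∀ A : Set c.pt, closure (⇑(D.map ψ) '' F A) = closure (⇑(c.π.app i) '' A) := by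
        intro A
        rw [closure_image_closure (D.map ψ).continuous, ← Set.image_comp]
        exact congrArg closure (Set.image_congr fun s _ => π_map_apply ψ s)
      rw [← hcomp, ← hcomp]
      exact closure_mono (Set.image_mono hsub)
  have hirr : ∀ Y ∈ S, IsIrreducible (F Y) := fun Y hY =>
    (hY.1.image _ (c.π.app j).continuous.continuousOn).closure
  have hcov : ∀ K : Set (D.obj j), IsIrreducible K → ∃ Y ∈ S, K ⊆ F Y := by
    intro K hK
    have hu : (⋃ Y ∈ S, F Y) = Set.univ := by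
      refine Set.eq_univ_of_univ_subset ?_
      rw [← (hd j (ψ ≫ φ)).closure_range]
      refine closure_minimal ?_ (hfin.isClosed_biUnion fun Y _ => isClosed_closure)
      rintro _ ⟨s, rfl⟩
      exact Set.mem_biUnion (irreducibleComponent_mem_irreducibleComponents s)
        (subset_closure ⟨s, mem_irreducibleComponent, rfl⟩)
    obtain ⟨Y, hY, hKY⟩ := (isIrreducible_iff_sUnion_isClosed.mp hK)
      (hfin.toFinset.image F) (by simp only [Finset.mem_image]; rintro _ ⟨Y, -, rfl⟩; exact isClosed_closure)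
      (by simp [hu])
    obtain ⟨Y₀, hY₀, rfl⟩ := Finset.mem_image.mp hY
    exact ⟨Y₀, hfin.mem_toFinset.mp hY₀, hKY⟩
  refine ⟨fun Y hY => ⟨hirr Y hY, fun K hK hle => ?_⟩,
    fun Y hY Y' hY' he => hsep Y hY Y' hY' he.subset, fun K hK => ?_⟩
  · obtain ⟨Y', hY', hKY'⟩ := hcov K hK
    obtain rfl := hsep Y hY Y' hY' (Set.Subset.trans hle hKY')
    exact hKY'
  · obtain ⟨Y, hY, hKY⟩ := hcov K hK.1
    exact ⟨Y, hY, (hK.2 (hirr Y hY) hKY).antisymm hKY⟩

lemma connectedComponent_finite {X : Type*} [TopologicalSpace X] [NoetherianSpace X] :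
    (Set.range (connectedComponent : X → Set X)).Finite := by
  classical
  refine Set.Finite.subset (Set.Finite.image
    (fun K => if h : K.Nonempty then connectedComponent h.some else Set.univ)
    (NoetherianSpace.finite_irreducibleComponents (α := X))) ?_
  rintro _ ⟨x, rfl⟩
  refine ⟨irreducibleComponent x, irreducibleComponent_mem_irreducibleComponents x, ?_⟩
  have hne : (irreducibleComponent x).Nonempty := ⟨x, mem_irreducibleComponent⟩
  simp only [dif_pos hne]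
  refine connectedComponent_eq ?_
  exact (isIrreducible_irreducibleComponent.isPreirreducible.isPreconnected.subset_connectedComponent
    hne.some_mem) mem_irreducibleComponent

lemma eventually_bijOn_connectedComponents (hc : IsLimit c) (i₀ : I)
    [CompactSpace (D.obj i₀)] [TopologicalSpace.NoetherianSpace c.pt]
    (hd : ∀ (j : I) (_ : j ⟶ i₀), DenseRange ⇑(c.π.app j)) :
    ∃ (i : I) (_ : i ⟶ i₀), ∀ (j : I) (_ : j ⟶ i),
      Set.BijOn (fun C : Set c.pt => closure (⇑(c.π.app j) '' (C : Set c.pt) : Set (D.obj j)))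
        (Set.range (connectedComponent : c.pt → Set c.pt))
        (Set.range (connectedComponent : D.obj j → Set (D.obj j))) := by
  have hfin := connectedComponent_finite (X := c.pt)
  have := hfin.to_subtype
  let U : Set.range (connectedComponent : c.pt → Set c.pt) → Set c.pt := Subtype.val
  have hdisj : Pairwise fun a b => Disjoint (U a) (U b) := by
    rintro ⟨_, x, rfl⟩ ⟨_, y, rfl⟩ hne
    exact connectedComponent_disjoint fun h => hne (Subtype.ext h)
  have hcl : ∀ a, IsClosed (U a) := by rintro ⟨_, x, rfl⟩; exact isClosed_connectedComponent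
  have hcov : ⋃ a, U a = Set.univ := Set.eq_univ_of_forall fun x =>
    Set.mem_iUnion.mpr ⟨⟨_, x, rfl⟩, mem_connectedComponent⟩
  have hop : ∀ a, IsOpen (U a) := by
    intro a
    have : U a = (⋃ b : {b // b ≠ a}, U b.1)ᶜ := by
      ext x
      refine ⟨fun hx => ?_, fun hx => ?_⟩
      · simp only [Set.mem_compl_iff, Set.mem_iUnion, not_exists]
        exact fun b hb => Set.disjoint_left.mp (hdisj b.2) hb hx
      · have : x ∈ ⋃ b, U b := hcov ▸ trivial
        obtain ⟨b, hb⟩ := Set.mem_iUnion.mp this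
        by_cases h : b = a
        · exact h ▸ hb
        · exact absurd (Set.mem_iUnion.mpr ⟨⟨b, h⟩, hb⟩) hx
    rw [this]
    exact (isClosed_iUnion_of_finite fun b : {b // b ≠ a} => hcl b.1).isOpen_compl
  obtain ⟨i, φ, hi⟩ := exists_partition hc i₀ hd U hop
    (fun a => NoetherianSpace.isCompact _) hdisj hcov
  refine ⟨i, φ, fun j ψ => ?_⟩
  obtain ⟨V, hV, hVd, hVc⟩ := hi j ψ
  have hVcl : ∀ a, IsClosed (V a : Set (D.obj j)) := by
    intro a
    have : (V a : Set (D.obj j)) = (⋃ b : {b // b ≠ a}, (V b.1 : Set (D.obj j)))ᶜ := by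
      ext x
      refine ⟨fun hx => ?_, fun hx => ?_⟩
      · simp only [Set.mem_compl_iff, Set.mem_iUnion, not_exists]
        exact fun b hb => Set.disjoint_left.mp (hVd b.2) hb hx
      · have : x ∈ ⋃ b, (V b : Set (D.obj j)) := hVc ▸ trivial
        obtain ⟨b, hb⟩ := Set.mem_iUnion.mp this
        by_cases h : b = a
        · exact h ▸ hb
        · exact absurd (Set.mem_iUnion.mpr ⟨⟨b, h⟩, hb⟩) hx
    rw [this]
    exact ⟨by rw [compl_compl]; exact isOpen_iUnion fun b => (V b.1).2⟩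
  have heq : ∀ a, closure (⇑(c.π.app j) '' U a) = (V a : Set (D.obj j)) := by
    intro a
    refine (closure_minimal ?_ (hVcl a)).antisymm fun x hx => mem_closure_iff.mpr fun O hO hxO => ?_
    · rintro _ ⟨s, hs, rfl⟩
      exact (hV a).ge hs
    · obtain ⟨_, ⟨hO', hV'⟩, s, rfl⟩ := dense_iff_inter_open.mp (hd j (ψ ≫ φ)) _
        (hO.inter (V a).2) ⟨x, hxO, hx⟩
      exact ⟨_, hO', s, (hV a).le hV', rfl⟩
  have hcomp : ∀ (a), ∀ x ∈ (V a : Set (D.obj j)),
      connectedComponent x = (V a : Set (D.obj j)) := by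
    intro a x hx
    refine (IsClopen.connectedComponent_subset ⟨hVcl a, (V a).2⟩ hx).antisymm
      (IsPreconnected.subset_connectedComponent ?_ hx)
    rw [← heq]
    obtain ⟨_, s, rfl⟩ := a
    exact (isPreconnected_connectedComponent.image _ (c.π.app j).continuous.continuousOn).closure
  refine ⟨fun C hC => ?_, fun C hC C' hC' he => ?_, fun K hK => ?_⟩
  · obtain ⟨s, rfl⟩ := hC
    refine ⟨c.π.app j s, ?_⟩
    exact (hcomp ⟨_, s, rfl⟩ _ ((hV ⟨_, s, rfl⟩).ge mem_connectedComponent)).trans (heq _).symm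
  · obtain ⟨s, rfl⟩ := hC
    by_contra hne
    have h1 : c.π.app j s ∈ (V ⟨_, s, rfl⟩ : Set (D.obj j)) :=
      (hV ⟨_, s, rfl⟩).ge mem_connectedComponent
    have h2 : c.π.app j s ∈ (V ⟨C', hC'⟩ : Set (D.obj j)) :=
      (heq ⟨C', hC'⟩).le (he.le ((heq ⟨_, s, rfl⟩).ge h1))
    exact Set.disjoint_left.mp (hVd fun h => hne (congrArg Subtype.val h)) h1 h2
  · obtain ⟨x, rfl⟩ := hK
    have : x ∈ ⋃ a, (V a : Set (D.obj j)) := hVc ▸ trivial
    obtain ⟨⟨C, hC⟩, hx⟩ := Set.mem_iUnion.mp this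
    exact ⟨C, hC, (heq ⟨C, hC⟩).trans (hcomp _ x hx).symm⟩

lemma injective_π (hc : IsLimit c) {i : I}
    (hinj : ∀ (j : I) (φ : j ⟶ i), Function.Injective ⇑(D.map φ)) :
    Function.Injective ⇑(c.π.app i) := by
  refine fun s t h => eq_of_forall hc fun j => ?_
  obtain ⟨k, f, g, -⟩ := IsCofilteredOrEmpty.cone_objs j i
  rw [← π_map_apply f s, ← π_map_apply f t]
  exact congrArg _ (hinj k g (by rw [π_map_apply, π_map_apply, h]))

lemma isEmbedding_π (hc : IsLimit c) {i : I}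
    (he : ∀ (j : I) (φ : j ⟶ i), IsEmbedding ⇑(D.map φ)) : IsEmbedding ⇑(c.π.app i) := by
  refine ⟨⟨le_antisymm (c.π.app i).continuous.le_induced ?_⟩,
    injective_π hc fun j φ => (he j φ).injective⟩
  refine le_trans (le_generateFrom ?_) (isBasis_π hc).eq_generateFrom.ge
  rintro _ ⟨j, V, -, rfl⟩
  obtain ⟨k, f, g, -⟩ := IsCofilteredOrEmpty.cone_objs j i
  obtain ⟨W, hW, hWV⟩ := (he k g).isInducing.isOpen_iff.mp (D.map f ⁻¹ᵁ V).2
  refine isOpen_induced_iff.mpr ⟨W, hW, ?_⟩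
  rw [← preimage_π_eq g W, hWV]
  exact preimage_π_eq f _

lemma exists_denseRange_π_of_isEmbedding (hc : IsLimit c) (i₀ : I)
    [NoetherianSpace (D.obj i₀)] (he : ∀ (i j : I) (φ : i ⟶ j), IsEmbedding ⇑(D.map φ)) :
    ∃ (i : I) (_ : i ⟶ i₀), ∀ (j : I) (_ : j ⟶ i), DenseRange ⇑(c.π.app j) := by
  let C := closure (Set.range ⇑(c.π.app i₀))
  have hCc : IsConstructible (Cᶜ : Set (D.obj i₀)) :=
    (NoetherianSpace.isCompact _).isConstructible isClosed_closure.isOpen_compl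
  obtain ⟨i, φ, hi⟩ := exists_map_preimage_subset hc i₀ (A := Set.univ) (B := C) IsPC.univ
    (IsPC.of_isConstructible hCc) (fun s _ => subset_closure ⟨s, rfl⟩)
  refine ⟨i, φ, fun j ψ => ?_⟩
  intro x
  rw [(he j i₀ (ψ ≫ φ)).isInducing.closure_eq_preimage_closure_image, Set.mem_preimage,
    ← Set.range_comp]
  have hr : Set.range (⇑(D.map (ψ ≫ φ)) ∘ ⇑(c.π.app j)) = Set.range ⇑(c.π.app i₀) :=
    congrArg Set.range (funext fun s => π_map_apply (ψ ≫ φ) s)
  rw [hr]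
  exact subset_comp ψ φ hi trivial

end Groth.Agent.Lib.LimTop.Components
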