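import Groth.Agent.Lib.LimTop.Points
import Groth.Agent.Lib.SchTopo.Closure
import Mathlib.CategoryTheory.CofilteredSystem

/-!
# Maximal points of limits
-/

universe u

open CategoryTheory CategoryTheory.Limits AlgebraicGeometry TopologicalSpace Topology
open Groth.Agent.Lib.LimTop.Points Groth.Agent.Lib.SchTopo.Closure

namespace Groth.Agent.Lib.LimTop.Maximal

/-- A maximal point: no proper generization. -/
abbrev IsMax {X : Scheme.{u}} (s : X) : Prop := ∀ z : X, z ⤳ s → z = s

lemma exists_isMax (X : Scheme.{u}) (x : X) : ∃ η : X, IsMax η ∧ η ⤳ x := by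
  obtain ⟨η, hη, h⟩ := exists_maximal_specializes X x
  exact ⟨η, fun z hz => eq_of_specializes_of_closure_mem hη hz, h⟩

lemma dense_of_isMax_mem {X : Scheme.{u}} {V : Set X} (h : ∀ η : X, IsMax η → η ∈ V) :
    Dense V := by
  intro x
  obtain ⟨η, hη, hx⟩ := exists_isMax X x
  exact hx.mem_closed isClosed_closure (subset_closure (h η hη))

lemma isMax_mem_of_dense {X : Scheme.{u}} (hfin : {s : X | IsMax s}.Finite) {V : Set X}
    (hV : IsOpen V) (hd : Dense V) {η : X} (hη : IsMax η) : η ∈ V := by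
  let C : Set X := ⋃ η' ∈ {s : X | IsMax s} \ {η}, closure {η'}
  have hC : IsClosed C := hfin.sdiff.isClosed_biUnion fun _ _ => isClosed_closure
  have hηC : η ∈ Cᶜ := by
    simp only [C, Set.mem_compl_iff, Set.mem_iUnion, not_exists]
    intro η' hη' hmem
    exact hη'.2 (hη η' (specializes_iff_mem_closure.mpr hmem))
  obtain ⟨y, hyC, hyV⟩ := hd.inter_open_nonempty Cᶜ hC.isOpen_compl ⟨η, hηC⟩
  obtain ⟨η', hη', hy⟩ := exists_isMax X y
  have h1 : η' ∈ Cᶜ := hy.mem_open hC.isOpen_compl hyC
  have h2 : η' = η := by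
    by_contra hne
    exact h1 (Set.mem_biUnion ⟨hη', hne⟩ (subset_closure rfl))
  exact h2 ▸ hy.mem_open hV hyV

variable {I : Type u} [SmallCategory I] [IsCofiltered I] {D : I ⥤ Scheme.{u}} {c : Cone D}
  [∀ (i j : I) (f : i ⟶ j), IsAffineHom (D.map f)]

omit [∀ (i j : I) (f : i ⟶ j), IsAffineHom (D.map f)] in
/-- A compatible system of finite nonempty sets of points over `i` contains a point of the limit. -/
lemma exists_point_of_finite (hc : IsLimit c) (i : I) (T : ∀ j : Over i, Set (D.obj j.left))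
    (hfin : ∀ j, (T j).Finite) (hne : ∀ j, (T j).Nonempty)
    (hmap : ∀ (j k : Over i) (f : j ⟶ k), Set.MapsTo (D.map f.left) (T j) (T k)) :
    ∃ t : c.pt, ∀ j : Over i, c.π.app j.left t ∈ T j := by
  let F : Over i ⥤ Type u :=
    { obj := fun j => T j
      map := fun {j k} f => ↾fun w => (⟨D.map f.left w.1, hmap j k f w.2⟩ : T k)
      map_id := fun j => by ext w; simp
      map_comp := fun f g => by ext w; simp }
  have : ∀ j, Finite (F.obj j) := fun j => (hfin j).to_subtype
  have : ∀ j, Nonempty (F.obj j) := fun j => (hne j).to_subtype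
  obtain ⟨u, hu⟩ := nonempty_sections_of_finite_cofiltered_system F
  obtain ⟨t, ht⟩ := exists_point (D := Over.forget i ⋙ D)
    ((Functor.Initial.isLimitWhiskerEquiv (Over.forget i) c).symm hc) (fun j => (u j).1)
    (fun j k f => congrArg Subtype.val (hu f))
  exact ⟨t, fun j => (ht j).symm ▸ (u j).2⟩

lemma isMax_iff (hc : IsLimit c)
    (hfin : ∀ i : I, {s : ↥(D.obj i) | IsMax s}.Finite)
    (hsys : ∀ (i j : I) (g : i ⟶ j) (s : ↥(D.obj i)), IsMax s → IsMax (D.map g s))
    (s : c.pt) : IsMax s ↔ ∀ i, IsMax (c.π.app i s) := by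
  refine ⟨fun h i => ?_, fun h z hz => eq_of_forall hc fun i => h i _ (hz.map (c.π.app i).continuous)⟩
  obtain ⟨t, ht⟩ := exists_point_of_finite hc i
    (fun j => {w | IsMax w ∧ w ⤳ c.π.app j.left s})
    (fun j => (hfin j.left).subset fun w hw => hw.1)
    (fun j => (exists_isMax (D.obj j.left) (c.π.app j.left s)).imp fun w hw => hw)
    (fun j k f w hw => ⟨hsys _ _ f.left w hw.1, by
      have := hw.2.map (D.map f.left).continuous
      rwa [π_map_apply] at this⟩)
  have hts : t = s := by
    refine h t (specializes_of_forall hc fun j => ?_)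
    obtain ⟨m, f, g, -⟩ := IsCofilteredOrEmpty.cone_objs j i
    rw [← π_map_apply f t, ← π_map_apply f s]
    exact ((ht (Over.mk g)).2).map (D.map f).continuous
  exact hts ▸ (ht (Over.mk (𝟙 i))).1

end Groth.Agent.Lib.LimTop.Maximal
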