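import Groth.Agent.Lib.LimTop.Affine
import Mathlib.RingTheory.Nilpotent.Lemmas
import Mathlib.AlgebraicGeometry.Noetherian

/-!
# Reducedness at a stage of a limit of open subschemes
-/

universe u

open CategoryTheory CategoryTheory.Limits AlgebraicGeometry TopologicalSpace Topology
open Groth.Agent.Lib.LimTop.PC Groth.Agent.Lib.LimTop.Points

namespace Groth.Agent.Lib.LimTop.Reduced

/-- With finitely generated nilradicals, the reduced locus is open. -/
lemma isOpen_reducedLocus (X : Scheme.{u}) (hN : ∀ U : X.affineOpens, (nilradical Γ(X, U)).FG) :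
    IsOpen {x : X | _root_.IsReduced (X.presheaf.stalk x)} := by
  classical
  refine isOpen_iff_mem_nhds.mpr fun x hx => ?_
  obtain ⟨_, ⟨U, hU : IsAffineOpen U, rfl⟩, hxU, -⟩ :=
    X.isBasis_affineOpens.exists_subset_of_mem_open (Set.mem_univ x) isOpen_univ
  obtain ⟨T, hT⟩ := hN ⟨U, hU⟩
  dsimp only at T hT
  let P := (hU.primeIdealOf ⟨x, hxU⟩).asIdeal
  let ax := X.presheaf.algebra_section_stalk ⟨x, hxU⟩
  letI := ax
  have := hU.isLocalization_stalk ⟨x, hxU⟩
  have hk : ∀ a ∈ T, ∃ m : P.primeCompl, (m : Γ(X, U)) * a = 0 := fun a ha => by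
    have ha' : IsNilpotent a := mem_nilradical.mp (hT ▸ Ideal.subset_span ha)
    have : _root_.IsReduced (X.presheaf.stalk x) := hx
    exact (IsLocalization.map_eq_zero_iff P.primeCompl (X.presheaf.stalk x) a).mp
      (ha'.map (algebraMap Γ(X, U) (X.presheaf.stalk x))).eq_zero
  choose m hm using hk
  let s : Γ(X, U) := ∏ a ∈ T.attach, (m a.1 a.2 : Γ(X, U))
  have hs : s ∈ P.primeCompl := Submonoid.prod_mem _ fun a _ => (m a.1 a.2).2
  have hsann : ∀ b : Γ(X, U), IsNilpotent b → s * b = 0 := by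
    intro b hb
    have : b ∈ Ideal.span (T : Set Γ(X, U)) := hT ▸ mem_nilradical.mpr hb
    clear hb
    induction this using Submodule.span_induction with
    | mem a ha =>
      obtain ⟨t, ht⟩ : (m a ha : Γ(X, U)) ∣ s :=
        Finset.dvd_prod_of_mem (fun a : T => (m a.1 a.2 : Γ(X, U))) (Finset.mem_attach T ⟨a, ha⟩)
      rw [ht, mul_comm (m a ha : Γ(X, U)) t, mul_assoc, hm a ha, mul_zero]
    | zero => rw [mul_zero]
    | add a b _ _ ha hb => rw [mul_add, ha, hb, add_zero]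
    | smul r a _ ha => rw [smul_eq_mul, mul_left_comm, ha, mul_zero]
  have hsu : IsUnit (algebraMap Γ(X, U) (X.presheaf.stalk x) s) :=
    IsLocalization.map_units (M := P.primeCompl) _ ⟨s, hs⟩
  refine mem_nhds_iff.mpr ⟨X.basicOpen s, fun y hy => ?_, (X.basicOpen s).2,
    (Scheme.mem_basicOpen _ s x hxU).mpr hsu⟩
  have hyU : y ∈ U := X.basicOpen_le s hy
  letI := X.presheaf.algebra_section_stalk ⟨y, hyU⟩
  have := hU.isLocalization_stalk ⟨y, hyU⟩
  have hys : IsUnit (algebraMap Γ(X, U) (X.presheaf.stalk y) s) :=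
    (Scheme.mem_basicOpen _ s y hyU).mp hy
  refine ⟨fun g ⟨n, hn⟩ => ?_⟩
  obtain ⟨⟨b, t⟩, rfl⟩ :=
    IsLocalization.mk'_surjective (hU.primeIdealOf ⟨y, hyU⟩).asIdeal.primeCompl g
  rw [← IsLocalization.mk'_pow, IsLocalization.mk'_eq_zero_iff] at hn
  obtain ⟨v, hv⟩ := hn
  have hnil : IsNilpotent ((v : Γ(X, U)) * b) := by
    refine ⟨n + 1, ?_⟩
    rw [show ((v : Γ(X, U)) * b) ^ (n + 1) =
      ((v : Γ(X, U)) * b ^ n) * ((v : Γ(X, U)) ^ n * b) by ring, hv, zero_mul]
  refine (IsLocalization.mk'_eq_zero_iff _ _).mpr ?_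
  have h0 := congrArg (algebraMap Γ(X, U) (X.presheaf.stalk y)) (hsann _ hnil)
  rw [map_mul, map_zero, hys.mul_right_eq_zero] at h0
  obtain ⟨w, hw⟩ := (IsLocalization.map_eq_zero_iff
    (hU.primeIdealOf ⟨y, hyU⟩).asIdeal.primeCompl _ _).mp h0
  exact ⟨w * v, by rw [Submonoid.coe_mul, mul_assoc]; exact hw⟩

variable {I : Type u} [SmallCategory I] [IsCofiltered I] {D : I ⥤ Scheme.{u}} {c : Cone D}
  [∀ (i j : I) (f : i ⟶ j), IsAffineHom (D.map f)]

lemma eventually_isReduced (hc : IsLimit c) (i₀ : I) [CompactSpace (D.obj i₀)]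
    (hoi : ∀ (i j : I) (φ : i ⟶ j), IsOpenImmersion (D.map φ))
    (hN : ∀ U : (D.obj i₀).affineOpens, (nilradical Γ(D.obj i₀, U)).FG)
    (hsurj : ∀ s : c.pt, IsIso ((c.π.app i₀).stalkMap s)) [IsReduced c.pt] :
    ∃ (i : I) (_ : i ⟶ i₀), ∀ (j : I) (_ : j ⟶ i), IsReduced (D.obj j) := by
  let V := {x : D.obj i₀ | _root_.IsReduced ((D.obj i₀).presheaf.stalk x)}
  obtain ⟨i, φ, hi⟩ := exists_map_preimage_subset hc i₀ (A := Set.univ) (B := V) IsPC.univ
    (IsPC.of_isClosed (isOpen_reducedLocus _ hN).isClosed_compl) (fun s _ => by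
      have := hsurj s
      have hr : _root_.IsReduced (c.pt.presheaf.stalk s) := inferInstance
      exact @isReduced_of_injective _ _ _ _ _ _ _ ((c.π.app i₀).stalkMap s).hom
        (ConcreteCategory.bijective_of_isIso _).1 hr)
  clear hsurj
  refine ⟨i, φ, fun j ψ => ?_⟩
  have := hoi j i₀ (ψ ≫ φ)
  have (x : D.obj j) : _root_.IsReduced ((D.obj j).presheaf.stalk x) := by
    have hx : D.map (ψ ≫ φ) x ∈ V := by
      rw [map_comp_apply]; exact hi trivial
    have : _root_.IsReduced ((D.obj i₀).presheaf.stalk (D.map (ψ ≫ φ) x)) := hx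
    exact isReduced_of_injective (inv ((D.map (ψ ≫ φ)).stalkMap x)).hom
      (ConcreteCategory.bijective_of_isIso _).1
  exact isReduced_of_isReduced_stalk _

end Groth.Agent.Lib.LimTop.Reduced
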